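import Cfsg.Agent.RuAut.Main

/-!
# The standard group on 4060 points

The image of the presented Rudvalis group on 4060 points, with words acting through the table, and small checkers for
tabulated trees.
-/

set_option autoImplicit false
set_option maxRecDepth 100000
set_option maxHeartbeats 1000000
set_option linter.style.haveILetI false
set_option Elab.async false

namespace CfsgLib.RuRankThree

open CfsgLib.Coset MulAction

attribute [local irreducible] Ru.Pts.Tb

/-- The points. -/
abbrev V : Type := Fin 4060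

/-- A word acting on the number of a point, the first letter first. -/
noncomputable def app (w : List ℕ) (i : ℕ) : ℕ := follow (tget Ru.Pts.Tb) i w

/-- The permutation of a word. -/
noncomputable def wperm (w : List ℕ) : Equiv.Perm V := (Ru.ρ (ev Ru.Lp w))⁻¹

/-- The letters of the words are generators. -/
def LettersOK (w : List ℕ) : Prop := ∀ l ∈ w, l < 5

instance (w : List ℕ) : Decidable (LettersOK w) := inferInstanceAs (Decidable (∀ l ∈ w, l < 5))

theorem LettersOK.append {u v : List ℕ} (hu : LettersOK u) (hv : LettersOK v) : LettersOK (u ++ v) :=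
  fun l hl => (List.mem_append.mp hl).elim (hu l) (hv l)

theorem LettersOK.rev {u : List ℕ} (hu : LettersOK u) : LettersOK u.reverse := fun l hl => hu l (List.mem_reverse.mp hl)

theorem wperm_apply {w : List ℕ} (hw : LettersOK w) (i : V) : (wperm w i).val = app w i.val :=
  Ru.matches_ρ.follow_eq w i (fun l hl => by rw [Ru.len_Lp]; exact hw l hl)

theorem wperm_nil : wperm [] = 1 := by simp [wperm]

theorem wperm_append (u v : List ℕ) : wperm (u ++ v) = wperm v * wperm u := by
  simp [wperm, ev_append, mul_inv_rev]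

theorem wperm_reverse : ∀ w : List ℕ, wperm w.reverse = (wperm w)⁻¹
  | [] => by simp [wperm]
  | l :: w => by
    have e : wperm [l] = (wperm [l])⁻¹ := by
      refine eq_inv_of_mul_eq_one_left ?_
      rw [wperm, ← mul_inv_rev, ← map_mul, ev_cons, ev_nil, mul_one, Ru.sq_p, map_one, inv_one]
    rw [List.reverse_cons, wperm_append, wperm_reverse w, e, ← mul_inv_rev, ← wperm_append, List.singleton_append]

/-- The group. -/
noncomputable def M : Subgroup (Equiv.Perm V) := Ru.ρ.range

theorem wperm_mem_M (w : List ℕ) : wperm w ∈ M := inv_mem ⟨_, rfl⟩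

theorem M_transitive (i j : V) : ∃ m ∈ M, m i = j := by
  obtain ⟨g, hg⟩ := Ru.transitive i
  obtain ⟨k, hk⟩ := Ru.transitive j
  exact ⟨Ru.ρ k * (Ru.ρ g)⁻¹, mul_mem ⟨_, rfl⟩ (inv_mem ⟨_, rfl⟩), by rw [Equiv.Perm.mul_apply, ← hg]; simpa using hk⟩

theorem card_M : Nat.card M = 145926144000 := by
  rw [← Ru.card_P.1]
  exact (Nat.card_congr (MonoidHom.ofInjective Ru.card_P.2).toEquiv).symm

/-- The group is the Rudvalis group. -/
theorem M_isRu : Cfsg.Spor.IsoRu M := by
  obtain ⟨e⟩ := CfsgLib.RuAut.nonempty_equiv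
  exact ⟨((MonoidHom.ofInjective Ru.card_P.2).symm).trans e.symm⟩

/-- The stabiliser of the first point. -/
noncomputable def M0 : Subgroup (Equiv.Perm V) := (pstab Ru.ρ (0 : V)).map Ru.ρ

theorem M0_le_M : M0 ≤ M := Subgroup.map_le_range _ _

theorem M0_zero {m : Equiv.Perm V} (hm : m ∈ M0) : m 0 = 0 := by
  obtain ⟨g, hg, rfl⟩ := hm
  exact hg

theorem mem_M0 {m : Equiv.Perm V} (hm : m ∈ M) (h0 : m 0 = 0) : m ∈ M0 := by
  obtain ⟨g, rfl⟩ := hm
  exact ⟨g, h0, rfl⟩

theorem card_pstab : Nat.card (pstab Ru.ρ (0 : V)) = 35942400 := by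
  have := Ru.card_P_le.1
  letI : MulAction Ru.P V := MulAction.compHom V Ru.ρ
  have h := (stabilizer Ru.P (0 : V)).card_mul_index
  rw [index_stabilizer, Set.eq_univ_of_forall (s := orbit Ru.P (0 : V)) fun i => by
    obtain ⟨g, hg⟩ := Ru.transitive i
    exact ⟨g, hg⟩, Set.ncard_univ, Nat.card_fin, Ru.card_P.1] at h
  have e : Nat.card (pstab Ru.ρ (0 : V)) = Nat.card (stabilizer Ru.P (0 : V)) := rfl
  omega

theorem card_M0 : Nat.card M0 = 35942400 := by
  rw [M0, ← Nat.card_congr ((pstab Ru.ρ (0 : V)).equivMapOfInjective Ru.ρ Ru.card_P.2).toEquiv, card_pstab]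

/-- The outer generator of the point stabiliser. -/
def outW : List ℕ := [4, 1, 2, 3, 4, 2, 4, 0, 2, 4]

/-- The generators of the point stabiliser. -/
def gensW : List (List ℕ) := [[0], [1], [2], [3], outW]

/-- The subgroup of the generators. -/
noncomputable def T : Subgroup Ru.P := Subgroup.closure {x | ∃ w ∈ gensW, x = ev Ru.Lp w}

theorem ev_mem_T : ∀ ks : List ℕ, ev Ru.Lp (ks.flatMap fun k => gensW.getD k []) ∈ T
  | [] => by simp [T]
  | k :: ks => by
    rw [List.flatMap_cons, ev_append]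
    refine mul_mem ?_ (ev_mem_T ks)
    rcases lt_or_ge k gensW.length with h | h
    · rw [List.getD_eq_getElem _ _ h]
      exact Subgroup.subset_closure ⟨_, List.getElem_mem h, rfl⟩
    · rw [List.getD_eq_default _ _ h, ev_nil]
      exact one_mem _

theorem B_expand :
    (Ru.Orb.B2G = [[2, 3, 2, 3], [0, 1, 2, 3, 1, 0], [1, 3, 0, 1, 0, 3, 1], [2, 0, 3, 1, 3, 0, 2], [0, 2, 4, 3]].map
      fun ks => ks.flatMap fun k => gensW.getD k []) ∧
    (Ru.Orb.B3G = ([[2, 3, 2, 3],
      [0, 1, 2, 3, 1, 0, 1, 3, 0, 1, 0, 3, 1, 0, 1, 3, 2, 1, 0],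
      [0, 1, 2, 3, 1, 0, 2, 0, 3, 1, 3, 0, 2, 1, 3, 0, 1, 0, 3, 1, 2, 0, 3, 1, 3, 0, 2, 1, 3, 0, 1, 0, 3, 1, 2, 0, 3, 1, 3, 0, 2, 0, 1, 3, 2, 1, 0],
      [0, 1, 2, 3, 1, 0, 2, 0, 3, 1, 3, 0, 2, 0, 1, 2, 3, 1, 0, 2, 0, 3, 1, 3, 0, 2, 0, 1, 2, 3, 1, 2, 4, 3, 2, 0, 3, 1, 3, 0, 2]] : List (List ℕ)).map fun ks => ks.flatMap fun k => gensW.getD k []) := by
  decide +kernel

theorem T_eq : T = pstab Ru.ρ (0 : V) := by
  have := Ru.card_P_le.1
  have hle : T ≤ pstab Ru.ρ (0 : V) := by
    rw [T, Subgroup.closure_le]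
    rintro _ ⟨w, hw, rfl⟩
    exact (Ru.matches_ρ.mem_pstab_iff (w := w) _ (by rw [Ru.len_Lp]; revert w; decide)).mpr
      (by revert w; decide +kernel)
  have h4 : 1 ≤ Nat.card (T ⊓ baseStab Ru.ρ [(0 : V), 1, 3, 2] : Subgroup Ru.P) := Nat.card_pos
  have h3 := orbit_step_in Ru.matches_ρ T (base := [(0 : V), 1, 3]) (β := 2) (m := 16) (dm := 4)
    (gens := Ru.Orb.B3G) (P := Ru.Orb.B3P) (Inv := Ru.Orb.B3Inv)
    (by decide +kernel) (by decide +kernel) (by decide +kernel) (fun w hw => by
      rw [B_expand.2] at hw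
      obtain ⟨ks, -, rfl⟩ := List.mem_map.mp hw
      exact ev_mem_T ks) h4
  have h2 := orbit_step_in Ru.matches_ρ T (base := [(0 : V), 1]) (β := 3) (m := 975) (dm := 10)
    (gens := Ru.Orb.B2G) (P := Ru.Orb.B2P) (Inv := Ru.Orb.B2Inv)
    (by decide +kernel) (by decide +kernel) (by decide +kernel) (fun w hw => by
      rw [B_expand.1] at hw
      obtain ⟨ks, -, rfl⟩ := List.mem_map.mp hw
      exact ev_mem_T ks) h3
  have h1 := orbit_step_in Ru.matches_ρ T (base := [(0 : V)]) (β := 1) (m := 2304) (dm := 12)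
    (gens := Ru.Orb.B1G) (P := Ru.Orb.B1P) (Inv := Ru.Orb.B1Inv)
    (by decide +kernel) (by decide +kernel) (by decide +kernel) (fun w hw => Subgroup.subset_closure ⟨w, by
      revert w; decide, rfl⟩) h2
  refine Subgroup.eq_of_le_of_card_ge hle ?_
  rw [card_pstab]
  refine le_trans (le_trans (le_of_eq ?_) h1) (Subgroup.card_le_of_le inf_le_left)
  norm_num

/-- Induction on the point stabiliser through its five generators. -/
theorem M0_induction {p : Equiv.Perm V → Prop} (gen : ∀ w ∈ gensW, p (Ru.ρ (ev Ru.Lp w))) (one : p 1)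
    (mul : ∀ x y, p x → p y → p (x * y)) : ∀ m ∈ M0, p m := by
  have := Ru.card_P_le.1
  rintro _ ⟨g, hg, rfl⟩
  rw [SetLike.mem_coe, ← T_eq, T, ← Subgroup.mem_toSubmonoid, Subgroup.closure_toSubmonoid_of_finite] at hg
  induction hg using Submonoid.closure_induction with
  | mem x hx => obtain ⟨w, hw, rfl⟩ := hx; exact gen w hw
  | one => rw [map_one]; exact one
  | mul x y _ _ hx hy => rw [map_mul]; exact mul _ _ hx hy

/-- Only the identity fixes the base. -/
theorem base_trivial : baseStab Ru.ρ [(0 : V), 1, 3, 2] = ⊥ := by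
  have := Ru.card_P_le.1
  have h4 : Nat.card (baseStab Ru.ρ [(0 : V), 1, 3, 2]) ≤ Nat.card (baseStab Ru.ρ [(0 : V), 1, 3, 2]) := le_rfl
  have h3 := orbit_step Ru.matches_ρ (base := [(0 : V), 1, 3]) (β := 2) (m := 16) (dm := 4)
    (gens := Ru.Orb.B3G) (P := Ru.Orb.B3P) (Inv := Ru.Orb.B3Inv)
    (by decide +kernel) (by decide +kernel) (by decide +kernel) h4
  have h2 := orbit_step Ru.matches_ρ (base := [(0 : V), 1]) (β := 3) (m := 975) (dm := 10)
    (gens := Ru.Orb.B2G) (P := Ru.Orb.B2P) (Inv := Ru.Orb.B2Inv)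
    (by decide +kernel) (by decide +kernel) (by decide +kernel) h3
  have h1 := orbit_step Ru.matches_ρ (base := [(0 : V)]) (β := 1) (m := 2304) (dm := 12)
    (gens := Ru.Orb.B1G) (P := Ru.Orb.B1P) (Inv := Ru.Orb.B1Inv)
    (by decide +kernel) (by decide +kernel) (by decide +kernel) h2
  have h0 := orbit_step Ru.matches_ρ (base := []) (β := 0) (m := 4060) (dm := 12)
    (gens := Ru.Orb.B0G) (P := Ru.Orb.B0P) (Inv := Ru.Orb.B0Inv)
    (by decide +kernel) (by decide +kernel) (by decide +kernel) h1
  have e : Nat.card (baseStab Ru.ρ ([] : List V)) = 145926144000 := by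
    simp [baseStab, Ru.card_P.1]
  rw [e] at h0
  have hp : 0 < Nat.card (baseStab Ru.ρ [(0 : V), 1, 3, 2]) := Nat.card_pos
  exact Subgroup.eq_bot_of_card_eq _ (by omega)

theorem eq_of_base {x y : Equiv.Perm V} (hx : x ∈ M) (hy : y ∈ M) (h0 : x 0 = y 0) (h1 : x 1 = y 1)
    (h3 : x 3 = y 3) (h2 : x 2 = y 2) : x = y := by
  obtain ⟨g, rfl⟩ := hx
  obtain ⟨k, rfl⟩ := hy
  have : g⁻¹ * k ∈ baseStab Ru.ρ [(0 : V), 1, 3, 2] := by
    refine (mem_foldl_inf _ ⊤).mpr ⟨trivial, fun b hb => ?_⟩
    have hb' : Ru.ρ g b = Ru.ρ k b := by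
      simp only [List.mem_cons, List.not_mem_nil, or_false] at hb
      rcases hb with rfl | rfl | rfl | rfl
      exacts [h0, h1, h3, h2]
    rw [mem_pstab, map_mul, Equiv.Perm.mul_apply, ← hb', map_inv]
    simp
  rw [base_trivial, Subgroup.mem_bot, inv_mul_eq_one] at this
  rw [this]

/-- Two words agree on the base. -/
noncomputable def sameW (u v : List ℕ) : Bool :=
  [0, 1, 3, 2].all fun i => app u i == app v i

theorem wperm_congr {u v : List ℕ} (hu : LettersOK u) (hv : LettersOK v) (h : sameW u v = true) :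
    wperm u = wperm v := by
  simp only [sameW, List.all_eq_true, beq_iff_eq] at h
  have key : ∀ i : V, i.val ∈ [0, 1, 3, 2] → wperm u i = wperm v i := fun i hi =>
    Fin.ext (by rw [wperm_apply hu, wperm_apply hv, h _ hi])
  exact eq_of_base (wperm_mem_M u) (wperm_mem_M v) (key 0 (by decide)) (key 1 (by decide)) (key 3 (by decide))
    (key 2 (by decide))

/-- The words fixing the first point. -/
def LettersH (w : List ℕ) : Prop := LettersOK w ∧ app w 0 = 0

noncomputable instance (w : List ℕ) : Decidable (LettersH w) := inferInstanceAs (Decidable (_ ∧ _))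

theorem wperm_mem {w : List ℕ} (h : LettersH w) : wperm w ∈ M0 :=
  mem_M0 (wperm_mem_M w) (Fin.ext (by rw [wperm_apply h.1]; exact h.2))

theorem app_append (u v : List ℕ) (i : ℕ) : app (u ++ v) i = app v (app u i) := follow_append _ _ _ _

theorem LettersH.append {u v : List ℕ} (hu : LettersH u) (hv : LettersH v) : LettersH (u ++ v) :=
  ⟨hu.1.append hv.1, by rw [app_append, hu.2, hv.2]⟩

theorem LettersH.rev {u : List ℕ} (hu : LettersH u) : LettersH u.reverse := by
  refine ⟨hu.1.rev, ?_⟩
  have h0 := M0_zero (inv_mem (wperm_mem hu))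
  rw [← wperm_reverse] at h0
  rw [show (0 : ℕ) = (0 : V).val from rfl, ← wperm_apply hu.1.rev, h0]

/-- The element of a word. -/
noncomputable def wM (w : List ℕ) : M0 := if h : LettersH w then ⟨wperm w, wperm_mem h⟩ else 1

theorem wM_val {w : List ℕ} (h : LettersH w) : (wM w : Equiv.Perm V) = wperm w := by rw [wM, dif_pos h]

theorem wM_append {u v : List ℕ} (hu : LettersH u) (hv : LettersH v) : wM (u ++ v) = wM v * wM u :=
  Subtype.ext (by rw [Subgroup.coe_mul, wM_val (hu.append hv), wM_val hu, wM_val hv, wperm_append])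

theorem wM_nil : wM [] = 1 := by
  rw [wM, dif_pos (by decide +kernel : LettersH [])]; exact Subtype.ext wperm_nil

theorem wM_pow {w : List ℕ} (hw : LettersH w) : ∀ n, LettersH (List.replicate n w).flatten ∧
    wM (List.replicate n w).flatten = wM w ^ n
  | 0 => ⟨(by decide +kernel : LettersH []), by simp [wM_nil]⟩
  | n + 1 => by
    obtain ⟨h1, h2⟩ := wM_pow hw n
    rw [List.replicate_succ, List.flatten_cons, pow_succ, ← h2]
    exact ⟨hw.append h1, wM_append hw h1⟩

/-- An entry of a packed table. -/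
def getA (L : List ℕ) (i : ℕ) : ℕ := ((L.getD (i >>> 6) 0) >>> (24 * (i &&& 63))) &&& 16777215

/-- An entry of a tabulated tree. -/
def tent (L : List ℕ) (j c : ℕ) : ℕ := getA L (4 * j + c)

/-- The set of numbers in a list, as bits. -/
def maskOf (l : List ℕ) : ℕ := l.foldr (fun x m => m ||| (1 <<< x)) 0

theorem testBit_maskOf : ∀ (l : List ℕ) (i : ℕ), (maskOf l).testBit i = l.contains i
  | [], i => by simp [maskOf]
  | a :: l, i => by
    have ih := testBit_maskOf l i
    simp only [maskOf, List.foldr_cons, Nat.testBit_or, List.contains_cons] at ih ⊢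
    rw [ih, Nat.one_shiftLeft, Nat.testBit_two_pow, Bool.or_comm]
    congr 1
    simp [eq_comm, beq_eq_decide]

theorem mem_of_maskOf {l : List ℕ} {i : ℕ} : (maskOf l).testBit i = true ↔ i ∈ l := by
  rw [testBit_maskOf]; simp

/-- A tree sorted by its points in which each point comes from one of smaller rank by a generator. -/
noncomputable def treeOK (t : List ℕ → ℕ → ℕ) (root n : ℕ) (gens : List (List ℕ)) (L : List ℕ) : Bool :=
  (List.range n).all fun j =>
    ((tent L j 1 == 0 && tent L j 0 == root) ||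
      (decide (tent L j 2 < n ∧ tent L (tent L j 2) 1 < tent L j 1) &&
        t (gens.getD (tent L j 3) []) (tent L (tent L j 2) 0) == tent L j 0)) &&
    (decide (j + 1 = n) || decide (tent L j 0 < tent L (j + 1) 0))

/-- The points of a tree. -/
def treePts (n : ℕ) (L : List ℕ) : List ℕ := (List.range n).map fun j => tent L j 0

section Tree

variable {t : List ℕ → ℕ → ℕ} {root n : ℕ} {gens : List (List ℕ)} {L : List ℕ} (h : treeOK t root n gens L = true)

include h

theorem tree_spec {R : ℕ → Prop} (hnil : ∀ i, t [] i = i) (hroot : R root) (hstep : ∀ w ∈ gens, ∀ i, R i → R (t w i)) :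
    ∀ x ∈ treePts n L, R x := by
  have key : ∀ r j, j < n → tent L j 1 = r → R (tent L j 0) := by
    intro r
    induction r using Nat.strong_induction_on with
    | _ r ih =>
      intro j hj hr
      have hc := List.all_eq_true.mp h j (List.mem_range.mpr hj)
      simp only [Bool.and_eq_true, Bool.or_eq_true, beq_iff_eq, decide_eq_true_eq] at hc
      rcases hc.1 with ⟨-, e⟩ | ⟨⟨hp, hlt⟩, e⟩
      · rwa [e]
      · rw [← e]
        have hR := ih _ (hr ▸ hlt) _ hp rfl
        by_cases hg : gens.getD (tent L j 3) [] ∈ gens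
        · exact hstep _ hg _ hR
        · have : gens.getD (tent L j 3) [] = [] := by
            rcases lt_or_ge (tent L j 3) gens.length with hl | hl
            · exact absurd (by rw [List.getD_eq_getElem _ _ hl]; exact List.getElem_mem hl) hg
            · exact List.getD_eq_default _ _ hl
          rwa [this, hnil]
  intro x hx
  obtain ⟨j, hj, rfl⟩ := List.mem_map.mp hx
  exact key _ j (List.mem_range.mp hj) rfl

theorem tree_mono {i j : ℕ} (hij : i < j) (hj : j < n) : tent L i 0 < tent L j 0 := by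
  induction j, hij using Nat.le_induction with
  | base =>
    have hc := List.all_eq_true.mp h i (List.mem_range.mpr (by omega))
    simp only [Bool.and_eq_true, Bool.or_eq_true, decide_eq_true_eq] at hc
    exact hc.2.resolve_left (by omega)
  | succ j hle ih =>
    have hc := List.all_eq_true.mp h j (List.mem_range.mpr (by omega))
    simp only [Bool.and_eq_true, Bool.or_eq_true, decide_eq_true_eq] at hc
    exact (ih (by omega)).trans (hc.2.resolve_left (by omega))

theorem tree_nodup : (treePts n L).Nodup := by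
  refine List.Nodup.map_on ?_ List.nodup_range
  intro i hi j hj e
  rw [List.mem_range] at hi hj
  rcases lt_trichotomy i j with hlt | rfl | hlt
  · exact absurd e (tree_mono h hlt hj).ne
  · rfl
  · exact absurd e.symm (tree_mono h hlt hi).ne

end Tree

end CfsgLib.RuRankThree
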