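import Cfsg.Agent.RuRankThree.Search

/-!
# Coordinates for a rank three action on 4060 points

The short suborbit becomes the points of the octagon and each point of the long one the set of points it is joined
to, so the points carry the standard graph.
-/

set_option autoImplicit false
set_option maxRecDepth 100000
set_option maxHeartbeats 1000000
set_option linter.unusedSectionVars false
set_option linter.style.haveILetI false
set_option Elab.async false

namespace CfsgLib.RuRankThree

open CfsgLib.Coset MulAction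

attribute [local irreducible] Ru.Pts.Tb bV cV maskB treeB treeC rowBits orbTree0 orbTree1 orbTree2 orbTree3

/-! ### Counts at the base point -/

theorem nearPair_ok : (decide (LettersH (orbWords.getD 0 [])) && app (orbWords.getD 0 []) 13 == rootN 0 &&
    ((orbL 0).filter fun x => (maskOf ((orbL 0).map (app (orbWords.getD 0 [])))).testBit x).length == 1 &&
    ((orbL 0).filter fun x => (maskOf ((orbL 1).map (app (orbWords.getD 0 [])))).testBit x).length == 8) = true := by
  decide +kernel

theorem near_near {v i : V} (h : Orb 0 v i) :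
    ({w | Orb 0 v w} ∩ {w | Orb 0 i w}).ncard = 1 ∧ ({w | Orb 0 v w} ∩ {w | Orb 1 i w}).ncard = 8 := by
  obtain ⟨g, hg, rfl, rfl⟩ := orb_move (by norm_num) h
  have pre : ∀ (k : ℕ) (x : V), {w | Orb k (g x) w} = g '' {w | Orb k x w} := fun k x => by
    ext w; obtain ⟨w, rfl⟩ := g.surjective w; simp [orb_M0 hg]
  rw [pre 0 13, pre 0, pre 1, ← Set.image_inter g.injective, ← Set.image_inter g.injective,
    Set.ncard_image_of_injective _ g.injective, Set.ncard_image_of_injective _ g.injective]
  have hn := nearPair_ok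
  simp only [Bool.and_eq_true, decide_eq_true_eq, beq_iff_eq] at hn
  obtain ⟨⟨⟨hw, e13⟩, c1⟩, c8⟩ := hn
  set w := orbWords.getD 0 []
  have hlt : rootN 0 < 4060 := by
    have := List.all_eq_true.mp orbTree_ok.1 0 (List.mem_range.mpr (by norm_num))
    simp only [Bool.and_eq_true, decide_eq_true_eq] at this
    exact this.1.1.1.1.2
  have eroot : wperm w 13 = Fin.ofNat 4060 (rootN 0) := Fin.ext (by
    rw [wperm_apply hw.1]; simp only [Fin.val_ofNat, Nat.mod_eq_of_lt hlt]; exact e13)
  have hnd : (orbL 0).Nodup := by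
    have := List.all_eq_true.mp orbTree_ok.1 0 (List.mem_range.mpr (by norm_num))
    simp only [Bool.and_eq_true] at this
    exact tree_nodup this.1.1.1.1.1
  have count : ∀ k, k < 4 → ({x | Orb 0 13 x} ∩ {x | Orb k (Fin.ofNat 4060 (rootN 0)) x}).ncard =
      ((orbL 0).filter fun x => (maskOf ((orbL k).map (app w))).testBit x).length := by
    intro k hk
    rw [← ncard_vals (hnd.filter _) (fun x hx => (orb_base (by norm_num) (List.mem_filter.mp hx).1).1)]
    congr 1
    ext x
    obtain ⟨x, rfl⟩ := (wperm w).surjective x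
    simp only [Set.mem_inter_iff, Set.mem_ofPred_eq, List.mem_filter, mem_of_maskOf, orb13_iff (show 0 < 4 by norm_num)]
    refine and_congr_right fun _ => ?_
    rw [← eroot, orb_M0 (wperm_mem hw), orb13_iff hk, wperm_apply hw.1, List.mem_map]
    refine ⟨fun hx => ⟨_, hx, rfl⟩, fun ⟨y, hy, e⟩ => ?_⟩
    obtain ⟨hy', -⟩ := orb_base hk hy
    have : (⟨y, hy'⟩ : V) = x := (wperm w).injective
      (Fin.ext (by rw [wperm_apply hw.1, wperm_apply hw.1]; exact e))
    rw [← this]; exact hy
  exact ⟨(count 0 (by norm_num)).trans c1, (count 1 (by norm_num)).trans c8⟩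

theorem card_stab_B {v : V} (hv : InB v) : Nat.card (stabilizer M0 v) = 20480 := by
  have h := (stabilizer M0 v).card_mul_index
  have ho : orbit M0 v = {w | InB w} := by
    ext w
    constructor
    · rintro ⟨m, rfl⟩; exact (inB_M0 m.2).mpr hv
    · intro hw
      obtain ⟨g, hg, rfl⟩ := trans_B hv
      obtain ⟨k, hk, rfl⟩ := trans_B hw
      exact ⟨⟨k * g⁻¹, mul_mem hk (inv_mem hg)⟩, show (k * g⁻¹) (g 13) = k 13 by simp⟩
  rw [index_stabilizer, ho, card_InB, card_M0] at h
  omega

theorem card_stab_pair {k : ℕ} (hk : k < 4) {v u : V} (h : Orb k v u) :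
    Nat.card (stabilizer (stabilizer M0 v) u) * orbSize k = 20480 := by
  have h' := (stabilizer (stabilizer M0 v) u).card_mul_index
  have ho : orbit (stabilizer M0 v) u = {w | Orb k v w} := by
    ext w
    constructor
    · rintro ⟨⟨⟨m, hm⟩, hmv⟩, rfl⟩
      show Orb k v (m u)
      rw [show v = m v from hmv.symm, orb_M0 hm]
      exact h
    · intro hw
      obtain ⟨g, hg, g1, g2⟩ := orb_move hk h
      obtain ⟨n, hn, n1, n2⟩ := orb_move hk hw
      refine ⟨⟨⟨n * g⁻¹, mul_mem hn (inv_mem hg)⟩, ?_⟩, ?_⟩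
      · show (n * g⁻¹) v = v
        rw [Equiv.Perm.mul_apply, Equiv.Perm.inv_eq_iff_eq.mpr g1.symm, n1]
      · show (n * g⁻¹) u = w
        rw [Equiv.Perm.mul_apply, Equiv.Perm.inv_eq_iff_eq.mpr g2.symm, n2]
  rw [index_stabilizer, ho, card_orb hk h.1, card_stab_B h.1] at h'
  exact h'

/-- A subgroup of index 1755 of the point stabiliser fixes a point of the first suborbit. -/
theorem parabolic (X : Subgroup M0) (hX : Nat.card X = 20480) :
    ∃ v, InB v ∧ ∀ x ∈ X, (x : Equiv.Perm V) v = v := by
  classical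
  haveI : Fact (Nat.Prime 2) := ⟨Nat.prime_two⟩
  obtain ⟨P, hP⟩ := Sylow.exists_subgroup_card_pow_prime 2 (G := X) (n := 12) (by rw [hX]; norm_num)
  letI : MulAction P {v : V // InB v} :=
    { smul := fun p v => ⟨((p : X) : M0) • v.1, (inB_M0 ((p : X) : M0).2).mpr v.2⟩
      one_smul := fun v => Subtype.ext (by show (1 : M0) • v.1 = v.1; rw [one_smul])
      mul_smul := fun p q v => Subtype.ext (by
        show (((p * q : P) : X) : M0) • v.1 = ((p : X) : M0) • ((q : X) : M0) • v.1
        rw [← mul_smul]; rfl) }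
  obtain ⟨⟨v, hv⟩, hfix⟩ := (IsPGroup.of_card hP).nonempty_fixed_point_of_prime_not_dvd_card {v : V // InB v}
    (by rw [show Nat.card {v : V // InB v} = 1755 from (Nat.card_coe_set_eq _).trans card_InB]; norm_num)
  have hPv : ∀ p ∈ P, (p : M0) • v = v := fun p hp => congrArg Subtype.val (hfix ⟨p, hp⟩)
  refine ⟨v, hv, ?_⟩
  set O : Set V := orbit X v with hO
  have hdvd : O.ncard ∣ 5 := by
    have h1 : P ≤ stabilizer X v := fun p hp => hPv p hp
    have h2 := Subgroup.index_dvd_of_le h1
    have h3 := P.card_mul_index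
    rw [hP, hX] at h3
    rwa [index_stabilizer, show P.index = 5 by omega] at h2
  rcases (Nat.dvd_prime (by norm_num : Nat.Prime 5)).mp hdvd with h1 | h5
  · intro x hx
    obtain ⟨w, hw⟩ := Set.ncard_eq_one.mp h1
    have e : ∀ y ∈ O, y = w := fun y hy => by rw [hw] at hy; exact hy
    exact (e _ ⟨⟨x, hx⟩, rfl⟩).trans (e _ (mem_orbit_self v)).symm
  · exfalso
    have hself : v ∈ O := mem_orbit_self v
    have hOB : ∀ u ∈ O, InB u := by
      rintro _ ⟨x, rfl⟩; exact (inB_M0 (x : M0).2).mpr hv
    have near : ∀ u ∈ O, u ≠ v → Orb 0 v u := by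
      intro u hu hne
      obtain ⟨k, hk, hor⟩ := orb_cover hv (hOB u hu) hne
      rcases Nat.eq_zero_or_pos k with rfl | hk0
      · exact hor
      exfalso
      let f : P →* stabilizer M0 v :=
        ((X.subtype).comp P.subtype).codRestrict _ fun p => hPv p p.2
      have finj : Function.Injective f := fun p q e => by
        have := congrArg Subtype.val e
        exact Subtype.ext (Subtype.ext this)
      let st : Subgroup P := (stabilizer (stabilizer M0 v) u).comap f
      have hst_dvd : Nat.card st ∣ 4096 := by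
        have := Subgroup.card_subgroup_dvd_card st
        rwa [hP] at this
      have hst_le : Nat.card st ∣ Nat.card (stabilizer (stabilizer M0 v) u) := by
        rw [Nat.card_congr (st.equivMapOfInjective f finj).toEquiv]
        exact Subgroup.card_dvd_of_le (Subgroup.map_comap_le _ _)
      have hidx : st.index ≤ 4 := by
        letI : MulAction P V := MulAction.compHom V f
        have est : st = stabilizer P u := by ext p; rfl
        rw [est, index_stabilizer]
        refine le_trans (Set.ncard_le_ncard (t := O \ {v}) ?_) ?_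
        · rintro _ ⟨p, rfl⟩
          obtain ⟨x, rfl⟩ := hu
          refine ⟨⟨(p : X) * x, mul_smul _ _ _⟩, fun e => hne ?_⟩
          have e' : ((p : X) : M0) • (x • v) = v := e
          have := hPv (p : X)⁻¹ (inv_mem p.2)
          exact (inv_smul_smul ((p : X) : M0) (x • v : V)).symm.trans
            ((congrArg (fun y => ((p : X) : M0)⁻¹ • y) e').trans (by simpa using this))
        · rw [Set.ncard_diff (Set.singleton_subset_iff.mpr hself), Set.ncard_singleton, h5]
      have hprod := st.card_mul_index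
      rw [hP] at hprod
      have hp := card_stab_pair hk hor
      have hgcd : Nat.card st ∣ Nat.gcd 4096 (Nat.card (stabilizer (stabilizer M0 v) u)) :=
        Nat.dvd_gcd hst_dvd hst_le
      have : Nat.card st ≤ 256 := by
        refine le_trans (Nat.le_of_dvd (Nat.gcd_pos_of_pos_left _ (by norm_num)) hgcd) ?_
        refine le_trans (Nat.le_of_dvd Nat.card_pos (Nat.gcd_dvd_right _ _)) ?_
        interval_cases k <;> simp only [orbSize] at hp <;> omega
      nlinarith
    have near' : ∀ u ∈ O, ∀ w ∈ O, w ≠ u → Orb 0 u w := by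
      rintro _ ⟨x, rfl⟩ w hw hne
      obtain ⟨w, rfl⟩ := (((x : M0) : Equiv.Perm V)).surjective w
      show Orb 0 (((x : M0) : Equiv.Perm V) v) _
      rw [orb_M0 (x : M0).2]
      refine near w ?_ fun e => hne (by rw [e]; rfl)
      obtain ⟨y, hy⟩ := hw
      exact ⟨x⁻¹ * y, by
        show (x⁻¹ * y) • v = w
        rw [mul_smul, show y • v = x • w from hy, inv_smul_smul]⟩
    obtain ⟨u, hu, hne⟩ : ∃ u ∈ O, u ≠ v := by
      by_contra hh
      push Not at hh
      have := Set.ncard_le_ncard (show O ⊆ {v} from fun u hu => hh u hu)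
      rw [h5, Set.ncard_singleton] at this
      omega
    have hsub : O \ {v, u} ⊆ {w | Orb 0 v w} ∩ {w | Orb 0 u w} := by
      rintro w ⟨hw, hn⟩
      simp only [Set.mem_insert_iff, Set.mem_singleton_iff, not_or] at hn
      exact ⟨near w hw hn.1, near' u hu w hw hn.2⟩
    have := Set.ncard_le_ncard hsub
    rw [(near_near (near u hu hne)).1, Set.ncard_diff (by
      intro w hw; rcases hw with rfl | rfl; exacts [hself, hu]), Set.ncard_pair hne.symm, h5] at this
    omega

/-! ### The suborbits in a rank three group -/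

variable {Ω : Type*} [Fintype Ω] [DecidableEq Ω] {G : Subgroup (Equiv.Perm Ω)} {a b c : Ω}

/-- The orbital of a pair. -/
def Rel (G : Subgroup (Equiv.Perm Ω)) (a b x y : Ω) : Prop := ∃ g ∈ G, g a = x ∧ g b = y

/-- The hypotheses. -/
structure Hyp (G : Subgroup (Equiv.Perm Ω)) (a b c : Ω) : Prop where
  card : Fintype.card Ω = 4060
  trans : ∀ x y : Ω, ∃ g ∈ G, g x = y
  cardB : {y | Rel G a b a y}.ncard = 1755
  cardC : {y | Rel G a c a y}.ncard = 2304
  iso : Nonempty (M0 ≃* stabilizer G a)

theorem Rel.map {x y : Ω} {g : Equiv.Perm Ω} (hg : g ∈ G) (h : Rel G a b x y) : Rel G a b (g x) (g y) := by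
  obtain ⟨k, hk, rfl, rfl⟩ := h
  exact ⟨g * k, mul_mem hg hk, rfl, rfl⟩

theorem rel_map_iff {x y : Ω} {g : Equiv.Perm Ω} (hg : g ∈ G) : Rel G a b (g x) (g y) ↔ Rel G a b x y :=
  ⟨fun h => by simpa using h.map (inv_mem hg), Rel.map hg⟩

theorem image_nbhd {x : Ω} {g : Equiv.Perm Ω} (hg : g ∈ G) :
    g '' {y | Rel G a b x y} = {y | Rel G a b (g x) y} := by
  ext y
  constructor
  · rintro ⟨z, hz, rfl⟩
    exact Rel.map hg hz
  · intro hy
    refine ⟨g⁻¹ y, ?_, by simp⟩
    simpa using Rel.map (inv_mem hg) (show Rel G a b (g x) y from hy)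

section

variable (h : Hyp G a b c)

include h

theorem ncard_nbhd (x : Ω) : {y | Rel G a b x y}.ncard = 1755 := by
  obtain ⟨g, hg, rfl⟩ := h.trans a x
  rw [← image_nbhd hg, Set.ncard_image_of_injective _ g.injective, h.cardB]

theorem not_rel_self (x : Ω) : ¬ Rel G a b x x := by
  rintro ⟨g, hg, e1, e2⟩
  have hab : a = b := g.injective (e1.trans e2.symm)
  have hsub : {y | Rel G a b a y} ⊆ {a} := by
    rintro y ⟨k, hk, k1, k2⟩
    exact (k2.symm.trans ((congrArg k hab.symm).trans k1) : y = a)
  have := Set.ncard_le_ncard hsub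
  rw [h.cardB, Set.ncard_singleton] at this
  omega

theorem not_C_self : ¬ Rel G a c a a := by
  rintro ⟨g, hg, e1, e2⟩
  have hac : a = c := g.injective (e1.trans e2.symm)
  have hsub : {y | Rel G a c a y} ⊆ {a} := by
    rintro y ⟨k, hk, k1, k2⟩
    exact (k2.symm.trans ((congrArg k hac.symm).trans k1) : y = a)
  have := Set.ncard_le_ncard hsub
  rw [h.cardC, Set.ncard_singleton] at this
  omega

theorem disjoint_BC {y : Ω} (hB : Rel G a b a y) (hC : Rel G a c a y) : False := by
  obtain ⟨g, hg, g1, g2⟩ := hB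
  obtain ⟨k, hk, k1, k2⟩ := hC
  have e : {z | Rel G a b a z} = {z | Rel G a c a z} := by
    have ga : g⁻¹ a = a := Equiv.Perm.inv_eq_iff_eq.mpr g1.symm
    have ka : k⁻¹ a = a := Equiv.Perm.inv_eq_iff_eq.mpr k1.symm
    ext z
    constructor
    · rintro ⟨m, hm, m1, rfl⟩
      refine ⟨m * (g⁻¹ * k), mul_mem hm (mul_mem (inv_mem hg) hk), ?_, ?_⟩
      · rw [Equiv.Perm.mul_apply, Equiv.Perm.mul_apply, k1, ga, m1]
      · rw [Equiv.Perm.mul_apply, Equiv.Perm.mul_apply, k2, ← g2]; simp
    · rintro ⟨m, hm, m1, rfl⟩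
      refine ⟨m * (k⁻¹ * g), mul_mem hm (mul_mem (inv_mem hk) hg), ?_, ?_⟩
      · rw [Equiv.Perm.mul_apply, Equiv.Perm.mul_apply, g1, ka, m1]
      · rw [Equiv.Perm.mul_apply, Equiv.Perm.mul_apply, g2, ← k2]; simp
  have := h.cardB
  rw [e, h.cardC] at this
  omega

theorem cover_points (y : Ω) : y = a ∨ Rel G a b a y ∨ Rel G a c a y := by
  have hd : Disjoint {y | Rel G a b a y} {y | Rel G a c a y} :=
    Set.disjoint_left.mpr fun z h1 h2 => disjoint_BC h h1 h2
  have hu : insert a ({y | Rel G a b a y} ∪ {y | Rel G a c a y}) = Set.univ := by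
    refine Set.eq_of_subset_of_ncard_le (Set.subset_univ _) ?_
    rw [Set.ncard_univ, Nat.card_eq_fintype_card, h.card, Set.ncard_insert_of_notMem ?_,
      Set.ncard_union_eq hd, h.cardB, h.cardC]
    rintro (h1 | h1)
    exacts [not_rel_self h a h1, not_C_self h h1]
  have hy : y ∈ insert a ({y | Rel G a b a y} ∪ {y | Rel G a c a y}) := hu ▸ Set.mem_univ y
  exact hy

theorem split_ncard (X : Set Ω) :
    X.ncard = (X ∩ {a}).ncard + (X ∩ {y | Rel G a b a y}).ncard + (X ∩ {y | Rel G a c a y}).ncard := by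
  rw [← Set.ncard_union_eq, ← Set.ncard_union_eq]
  · congr 1
    ext y
    have := cover_points h y
    simp only [Set.mem_union, Set.mem_inter_iff, Set.mem_singleton_iff, Set.mem_ofPred_eq]
    tauto
  · refine Set.disjoint_left.mpr ?_
    rintro z (⟨-, rfl⟩ | ⟨-, hz⟩) ⟨-, hz'⟩
    exacts [not_C_self h hz', disjoint_BC h hz hz']
  · refine Set.disjoint_left.mpr ?_
    rintro z ⟨-, rfl⟩ ⟨-, hz'⟩
    exact not_rel_self h _ hz'

theorem rel_symm {x y : Ω} (hxy : Rel G a b x y) : Rel G a b y x := by
  classical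
  let N' : Set Ω := {y | Rel G a b y a}
  have hN : N'.ncard = 1755 := by
    have hin : ∀ z : Ω, (Finset.univ.filter fun x => Rel G a b x z).card = N'.ncard := by
      intro z
      obtain ⟨g, hg, rfl⟩ := h.trans a z
      rw [← Set.ncard_coe_finset, ← Set.ncard_image_of_injective N' g.injective]
      congr 1
      ext w
      simp only [Finset.coe_filter, Finset.mem_univ, true_and, Set.mem_ofPred_eq, Set.mem_image, N']
      constructor
      · intro hw
        exact ⟨g⁻¹ w, by simpa using hw.map (inv_mem hg), by simp⟩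
      · rintro ⟨v, hv, rfl⟩
        exact Rel.map hg hv
    have hout : ∀ z : Ω, (Finset.univ.filter fun y => Rel G a b z y).card = 1755 := fun z => by
      rw [← Set.ncard_coe_finset, ← ncard_nbhd h z]
      congr 1
      simp
    have := Finset.sum_card_bipartiteAbove_eq_sum_card_bipartiteBelow (r := Rel G a b) (s := (Finset.univ : Finset Ω))
      (t := Finset.univ)
    simp only [Finset.bipartiteAbove, Finset.bipartiteBelow, hin, hout, Finset.sum_const, Finset.card_univ, h.card,
      smul_eq_mul] at this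
    omega
  have heq : N' = {y | Rel G a b a y} := by
    by_cases hbN : Rel G a b b a
    · refine (Set.eq_of_subset_of_ncard_le ?_ (le_of_eq (by rw [hN, h.cardB]))).symm
      rintro z ⟨g, hg, g1, rfl⟩
      have := hbN.map hg
      rwa [g1] at this
    · exfalso
      have hsub : ∀ z ∈ N', ¬ Rel G a b a z := by
        rintro z hz ⟨g, hg, g1, rfl⟩
        have := Rel.map (inv_mem hg) (show Rel G a b (g b) a from hz)
        rw [show g⁻¹ a = a from Equiv.Perm.inv_eq_iff_eq.mpr g1.symm] at this
        exact hbN (by simpa using this)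
      by_cases hcN : ∃ z ∈ N', Rel G a c a z
      · obtain ⟨z, hz, k, hk, k1, rfl⟩ := hcN
        have hall : {y | Rel G a c a y} ⊆ N' := by
          rintro w ⟨m, hm, m1, rfl⟩
          have := Rel.map (mul_mem hm (inv_mem hk)) (show Rel G a b (k c) a from hz)
          rw [Equiv.Perm.mul_apply, Equiv.Perm.mul_apply, show k⁻¹ a = a from Equiv.Perm.inv_eq_iff_eq.mpr k1.symm,
            m1] at this
          show Rel G a b (m c) a
          simpa using this
        have := Set.ncard_le_ncard hall
        rw [hN, h.cardC] at this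
        omega
      · have hsub' : N' ⊆ {a} := fun z hz => by
          rcases cover_points h z with e | e | e
          exacts [e, absurd e (hsub z hz), absurd ⟨z, hz, e⟩ hcN]
        have := Set.ncard_le_ncard hsub'
        rw [hN, Set.ncard_singleton] at this
        omega
  obtain ⟨g, hg, rfl, rfl⟩ := hxy
  have hb : b ∈ N' := heq ▸ (⟨1, one_mem G, rfl, rfl⟩ : Rel G a b a b)
  exact Rel.map hg hb

end

/-- An action of the standard stabiliser on the points, through the point stabiliser. -/
structure IsAct (G : Subgroup (Equiv.Perm Ω)) (a : Ω) (P : M0 →* Equiv.Perm Ω) : Prop where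
  mem : ∀ m, P m ∈ G
  fix : ∀ m, P m a = a
  surj : ∀ g ∈ G, g a = a → ∃ m, P m = g
  inj : Function.Injective P

/-- A coordinatisation of the first suborbit. -/
structure IsLab (G : Subgroup (Equiv.Perm Ω)) (a b : Ω) (P : M0 →* Equiv.Perm Ω) (β : V → Ω) : Prop where
  mem : ∀ v, InB v → Rel G a b a (β v)
  inj : ∀ v w, InB v → InB w → β v = β w → v = w
  surj : ∀ y, Rel G a b a y → ∃ v, InB v ∧ β v = y
  equiv : ∀ (m : M0) v, InB v → P m (β v) = β ((m : Equiv.Perm V) v)

theorem exists_act (h : Hyp G a b c) : ∃ P : M0 →* Equiv.Perm Ω, IsAct G a P := by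
  obtain ⟨ψ⟩ := h.iso
  refine ⟨(G.subtype.comp (stabilizer G a).subtype).comp ψ.toMonoidHom, ⟨fun m => ((ψ m : stabilizer G a) : G).2,
    fun m => (ψ m).2, fun g hg ga => ?_, ?_⟩⟩
  · obtain ⟨m, hm⟩ := ψ.surjective ⟨⟨g, hg⟩, ga⟩
    exact ⟨m, by simp [hm]⟩
  · exact (G.subtype_injective.comp (stabilizer G a).subtype_injective).comp ψ.injective

theorem exists_lab (h : Hyp G a b c) {P : M0 →* Equiv.Perm Ω} (hP : IsAct G a P) :
    ∃ β, IsLab G a b P β := by
  classical
  letI : MulAction M0 Ω := MulAction.compHom Ω P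
  have horb : orbit M0 b = {y | Rel G a b a y} := by
    ext y
    constructor
    · rintro ⟨m, rfl⟩
      exact ⟨P m, hP.mem m, hP.fix m, rfl⟩
    · rintro ⟨g, hg, ga, rfl⟩
      obtain ⟨m, rfl⟩ := hP.surj g hg ga
      exact ⟨m, rfl⟩
  have hX : Nat.card (stabilizer M0 b) = 20480 := by
    have := (stabilizer M0 b).card_mul_index
    rw [index_stabilizer, horb, h.cardB, card_M0] at this
    omega
  obtain ⟨v0, hv0, hfix⟩ := parabolic (stabilizer M0 b) hX
  have hiff : ∀ m : M0, (m : Equiv.Perm V) v0 = v0 ↔ P m b = b := by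
    have hle : stabilizer M0 b ≤ stabilizer M0 v0 := fun x hx => hfix x hx
    have heq := Subgroup.eq_of_le_of_card_ge hle (by rw [hX, card_stab_B hv0])
    intro m
    exact ⟨fun hm => (heq.symm ▸ (hm : m ∈ stabilizer M0 v0) : m ∈ stabilizer M0 b), fun hm => hfix m hm⟩
  have hex : ∀ v, InB v → ∃ m : M0, (m : Equiv.Perm V) v0 = v := by
    intro v hv
    obtain ⟨g, hg, e⟩ := trans_B hv0
    obtain ⟨k, hk, e'⟩ := trans_B hv
    exact ⟨⟨k * g⁻¹, mul_mem hk (inv_mem hg)⟩, by
      show (k * g⁻¹) v0 = v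
      rw [Equiv.Perm.mul_apply, Equiv.Perm.inv_eq_iff_eq.mpr e.symm, e']⟩
  choose t ht using hex
  have hwell : ∀ m n : M0, (m : Equiv.Perm V) v0 = (n : Equiv.Perm V) v0 → P m b = P n b := by
    intro m n e
    have : ((n⁻¹ * m : M0) : Equiv.Perm V) v0 = v0 := by
      rw [Subgroup.coe_mul, Equiv.Perm.mul_apply, e, ← Equiv.Perm.mul_apply, ← Subgroup.coe_mul]; simp
    have := congrArg (P n) ((hiff _).mp this)
    rwa [← Equiv.Perm.mul_apply, ← map_mul, mul_inv_cancel_left] at this
  let β : V → Ω := fun v => if hv : InB v then P (t v hv) b else a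
  have hβ : ∀ v (hv : InB v), β v = P (t v hv) b := fun v hv => dif_pos hv
  refine ⟨β, ⟨fun v hv => ?_, fun v w hv hw e => ?_, fun y hy => ?_, fun m v hv => ?_⟩⟩
  · rw [hβ v hv]; exact ⟨P _, hP.mem _, hP.fix _, rfl⟩
  · rw [hβ v hv, hβ w hw] at e
    have : P ((t w hw)⁻¹ * t v hv) b = b := by
      rw [map_mul, Equiv.Perm.mul_apply, e, ← Equiv.Perm.mul_apply, ← map_mul]; simp
    have := congrArg ((t w hw : M0) : Equiv.Perm V) ((hiff _).mpr this)
    rwa [← Equiv.Perm.mul_apply, ← Subgroup.coe_mul, mul_inv_cancel_left, ht, ht] at this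
  · obtain ⟨m, rfl⟩ : y ∈ orbit M0 b := horb ▸ hy
    have hB : InB ((m : Equiv.Perm V) v0) := (inB_M0 m.2).mpr hv0
    refine ⟨_, hB, ?_⟩
    rw [hβ _ hB]
    exact hwell _ m (ht _ hB)
  · rw [hβ v hv, hβ _ ((inB_M0 m.2).mpr hv), ← Equiv.Perm.mul_apply, ← map_mul]
    exact hwell _ _ (by rw [ht, Subgroup.coe_mul, Equiv.Perm.mul_apply, ht])

/-- The points of the first suborbit joined to a point. -/
def SS (G : Subgroup (Equiv.Perm Ω)) (a b : Ω) (β : V → Ω) (y : Ω) : Set V := {v | InB v ∧ Rel G a b y (β v)}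

section

variable (h : Hyp G a b c) {P : M0 →* Equiv.Perm Ω} (hP : IsAct G a P) {β : V → Ω} (L : IsLab G a b P β)

include h hP L

theorem rel_P (m : M0) {x y : Ω} : Rel G a b (P m x) (P m y) ↔ Rel G a b x y := rel_map_iff (hP.mem m)

theorem B_inter (X : Set Ω) : (X ∩ {y | Rel G a b a y}).ncard = {v | InB v ∧ β v ∈ X}.ncard := by
  rw [← Set.InjOn.ncard_image (f := β) (s := {v | InB v ∧ β v ∈ X}) fun v hv w hw e => L.inj v w hv.1 hw.1 e]
  congr 1
  ext y
  constructor
  · rintro ⟨h1, h2⟩
    obtain ⟨v, hv, rfl⟩ := L.surj y h2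
    exact ⟨v, ⟨hv, h1⟩, rfl⟩
  · rintro ⟨v, ⟨hv, hi⟩, rfl⟩
    exact ⟨hi, L.mem v hv⟩

theorem SS_P (m : M0) (y : Ω) : SS G a b β (P m y) = (m : Equiv.Perm V) '' SS G a b β y := by
  ext v
  obtain ⟨v, rfl⟩ := (m : Equiv.Perm V).surjective v
  rw [(m : Equiv.Perm V).injective.mem_set_image]
  show InB _ ∧ Rel G a b (P m y) (β ((m : Equiv.Perm V) v)) ↔ InB v ∧ Rel G a b y (β v)
  rw [inB_M0 m.2]
  refine and_congr_right fun hv => ?_
  rw [← L.equiv m v hv]
  exact rel_P h hP L m

/-- The parameters. -/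
theorem parameters :
    (∀ v w, InB v → InB w → (Rel G a b (β v) (β w) ↔ AdjS v w)) ∧
    (∀ y, Rel G a c a y → (SS G a b β y).ncard = 780) ∧
    (∀ x y, Rel G a b x y → ({z | Rel G a b x z} ∩ {z | Rel G a b y z}).ncard = 730) := by
  classical
  set A : Set V := {w | InB w ∧ Rel G a b (β 13) (β w)} with hA
  set lam := ({z | Rel G a b a z} ∩ {z | Rel G a b b z}).ncard with hlam
  set μ := (SS G a b β c).ncard with hμ
  have h13 : InB 13 := inB13.1
  have hpair : ∀ x y, Rel G a b x y → ({z | Rel G a b x z} ∩ {z | Rel G a b y z}).ncard = lam := by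
    rintro x y ⟨g, hg, rfl, rfl⟩
    rw [← image_nbhd hg, ← image_nbhd hg, ← Set.image_inter g.injective, Set.ncard_image_of_injective _ g.injective]
  have hAlam : A.ncard = lam := by
    rw [← hpair a (β 13) (L.mem 13 h13), Set.inter_comm, B_inter h hP L]
    rfl
  have hCμ : ∀ y, Rel G a c a y → (SS G a b β y).ncard = μ := by
    rintro y ⟨g, hg, ga, rfl⟩
    obtain ⟨m, rfl⟩ := hP.surj g hg ga
    rw [SS_P h hP L, Set.ncard_image_of_injective _ (m : Equiv.Perm V).injective]
  have dich : ∀ k, k < 4 → A ∩ {w | Orb k 13 w} = ∅ ∨ A ∩ {w | Orb k 13 w} = {w | Orb k 13 w} := by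
    intro k hk
    rcases Set.eq_empty_or_nonempty (A ∩ {w | Orb k 13 w}) with e | ⟨u, hu, hu'⟩
    · exact Or.inl e
    · refine Or.inr (Set.inter_eq_right.mpr fun w hw => ⟨hw.2.1, ?_⟩)
      obtain ⟨g, hg, g1, g2⟩ := orb_move hk hu'
      obtain ⟨n, hn, n1, n2⟩ := orb_move hk hw
      have hm : n * g⁻¹ ∈ M0 := mul_mem hn (inv_mem hg)
      have e13 : (n * g⁻¹) 13 = 13 := by rw [Equiv.Perm.mul_apply, Equiv.Perm.inv_eq_iff_eq.mpr g1.symm, n1]
      have eu : (n * g⁻¹) u = w := by rw [Equiv.Perm.mul_apply, Equiv.Perm.inv_eq_iff_eq.mpr g2.symm, n2]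
      have := (rel_P h hP L ⟨_, hm⟩).mpr hu.2
      rwa [L.equiv _ _ h13, L.equiv _ _ hu.1, e13, eu] at this
  have dis : ∀ {j k : ℕ}, j < k → k < 4 → Disjoint (A ∩ {w | Orb j 13 w}) (A ∩ {w | Orb k 13 w}) := by
    intro j k hjk hk
    exact Set.disjoint_left.mpr fun w hw hw' => absurd (orb_unique (by omega) hk hw.2 hw'.2) hjk.ne
  have hA4 : A = (A ∩ {w | Orb 0 13 w}) ∪ (A ∩ {w | Orb 1 13 w}) ∪ (A ∩ {w | Orb 2 13 w}) ∪
      (A ∩ {w | Orb 3 13 w}) := by
    ext w
    constructor
    · intro hw
      obtain ⟨k, hk, ho⟩ := orb_cover h13 hw.1 (fun e => not_rel_self h (β 13) (by have := hw.2; rwa [e] at this))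
      interval_cases k <;> simp [hw, ho]
    · simp only [Set.mem_union, Set.mem_inter_iff]; tauto
  have hsum : lam = (A ∩ {w | Orb 0 13 w}).ncard + (A ∩ {w | Orb 1 13 w}).ncard + (A ∩ {w | Orb 2 13 w}).ncard +
      (A ∩ {w | Orb 3 13 w}).ncard := by
    rw [← Set.ncard_union_eq (dis (by norm_num) (by norm_num)), ← Set.ncard_union_eq, ← Set.ncard_union_eq, ← hA4,
      hAlam]
    · simp only [Set.disjoint_union_left]
      exact ⟨⟨dis (by norm_num) (by norm_num), dis (by norm_num) (by norm_num)⟩, dis (by norm_num) (by norm_num)⟩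
    · simp only [Set.disjoint_union_left]
      exact ⟨dis (by norm_num) (by norm_num), dis (by norm_num) (by norm_num)⟩
  have hBC : ∀ y, Rel G a b a y → ({z | Rel G a b y z} ∩ {z | Rel G a c a z}).ncard + lam = 1754 := by
    intro y hy
    have hs := split_ncard h {z | Rel G a b y z}
    have e1 : ({z | Rel G a b y z} ∩ {a}).ncard = 1 := by
      rw [Set.inter_eq_right.mpr (Set.singleton_subset_iff.mpr (show a ∈ {z | Rel G a b y z} from rel_symm h hy)),
        Set.ncard_singleton]
    rw [ncard_nbhd h, e1, Set.inter_comm {z | Rel G a b y z} {z | Rel G a b a z}, hpair a y hy] at hs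
    omega
  have hcount : 1755 * (1754 - lam) = 2304 * μ := by
    let Bf := Finset.univ.filter fun y => Rel G a b a y
    let Cf := Finset.univ.filter fun y => Rel G a c a y
    have hb : Bf.card = 1755 := by rw [← h.cardB, ← Set.ncard_coe_finset]; simp [Bf]
    have hc : Cf.card = 2304 := by rw [← h.cardC, ← Set.ncard_coe_finset]; simp [Cf]
    have e1 : ∀ y ∈ Bf, (Cf.bipartiteAbove (Rel G a b) y).card = 1754 - lam := by
      intro y hy
      have := hBC y (by simpa [Bf] using hy)
      rw [← Set.ncard_coe_finset,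
        show (↑(Cf.bipartiteAbove (Rel G a b) y) : Set Ω) = {z | Rel G a b y z} ∩ {z | Rel G a c a z} by
          ext; simp [Finset.bipartiteAbove, Cf, and_comm]]
      omega
    have e2 : ∀ z ∈ Cf, (Bf.bipartiteBelow (Rel G a b) z).card = μ := by
      intro z hz
      rw [← hCμ z (by simpa [Cf] using hz), ← Set.ncard_coe_finset]
      show _ = {v | InB v ∧ β v ∈ {w | Rel G a b z w}}.ncard
      rw [← B_inter h hP L]
      congr 1
      ext w
      simp only [Finset.bipartiteBelow, Bf, Finset.coe_filter, Finset.mem_filter, Finset.mem_univ, true_and,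
        Set.mem_ofPred_eq, Set.mem_inter_iff]
      exact ⟨fun h1 => ⟨rel_symm h h1.2, h1.1⟩, fun h1 => ⟨h1.2, rel_symm h h1.1⟩⟩
    have := Finset.sum_card_bipartiteAbove_eq_sum_card_bipartiteBelow (r := Rel G a b) (s := Bf) (t := Cf)
    rw [Finset.sum_congr rfl e1, Finset.sum_congr rfl e2, Finset.sum_const, Finset.sum_const, hb, hc,
      smul_eq_mul, smul_eq_mul] at this
    exact this
  have c0 := card_orb (k := 0) (by norm_num) h13
  have c1 := card_orb (k := 1) (by norm_num) h13
  have c2 := card_orb (k := 2) (by norm_num) h13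
  have c3 := card_orb (k := 3) (by norm_num) h13
  simp only [orbSize] at c0 c1 c2 c3
  -- the block case
  have noblock : μ ≠ 0 := by
    intro h0
    have hN : ∀ y, Rel G a c a y → ∀ z, Rel G a b y z → Rel G a c a z := by
      intro y hy z hz
      rcases cover_points h z with e | e | e
      · subst e
        exact (disjoint_BC h (rel_symm h hz) hy).elim
      · obtain ⟨v, hv, rfl⟩ := L.surj z e
        have := hCμ y hy
        rw [h0, Set.ncard_eq_zero (Set.toFinite _)] at this
        exact absurd (show v ∈ SS G a b β y from ⟨hv, hz⟩) (by rw [this]; exact Set.notMem_empty v)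
      · exact e
    have hC : Rel G a c a c := ⟨1, one_mem G, rfl, rfl⟩
    obtain ⟨g, hg, e⟩ := h.trans c a
    set W : Set Ω := insert c {z | Rel G a b c z}
    have hW : W ⊆ {z | Rel G a c a z} := by
      rintro z (rfl | hz)
      exacts [hC, hN c hC z hz]
    have cW : W.ncard = 1756 := by
      show (insert c {z | Rel G a b c z}).ncard = 1756
      rw [Set.ncard_insert_of_notMem (show c ∉ {z | Rel G a b c z} from not_rel_self h c), ncard_nbhd h]
    obtain ⟨w, hwC, hwW⟩ : ∃ w, Rel G a c a w ∧ w ∉ W := by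
      by_contra hh
      push Not at hh
      have := Set.ncard_le_ncard (show {z | Rel G a c a z} ⊆ W from hh)
      rw [h.cardC, cW] at this
      omega
    have hwN : insert w {z | Rel G a b w z} ⊆ {z | Rel G a c a z} \ W := by
      rintro z (rfl | hz)
      · exact ⟨hwC, hwW⟩
      refine ⟨hN w hwC z hz, ?_⟩
      -- translate by an element taking `c` to the base point
      have hgw : Rel G a c a (g w) := by
        rcases cover_points h (g w) with e' | e' | e'
        · exact absurd (Or.inl (g.injective (e'.trans e.symm))) hwW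
        · refine absurd (Or.inr ?_) hwW
          show Rel G a b c w
          rw [← rel_map_iff hg, e]; exact e'
        · exact e'
      have hgz : Rel G a c a (g z) := hN _ hgw _ (Rel.map hg hz)
      rintro (rfl | hzc)
      · rw [e] at hgz; exact not_C_self h hgz
      · have := Rel.map hg hzc
        rw [e] at this
        exact disjoint_BC h this hgz
    have := Set.ncard_le_ncard hwN
    rw [Set.ncard_insert_of_notMem (show w ∉ {z | Rel G a b w z} from not_rel_self h w), ncard_nbhd h, Set.ncard_diff hW, h.cardC, cW] at this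
    omega
  have hfin : lam = 730 ∧ μ = 780 ∧ A = {w | InB w ∧ AdjS 13 w} := by
    have key : lam = 730 ∧ μ = 780 ∧ A ∩ {w | Orb 3 13 w} = ∅ ∧
        A ∩ {w | Orb 0 13 w} = {w | Orb 0 13 w} ∧ A ∩ {w | Orb 1 13 w} = {w | Orb 1 13 w} ∧
        A ∩ {w | Orb 2 13 w} = {w | Orb 2 13 w} := by
      rcases dich 0 (by norm_num) with e0 | e0 <;> rcases dich 1 (by norm_num) with e1 | e1 <;>
        rcases dich 2 (by norm_num) with e2 | e2 <;> rcases dich 3 (by norm_num) with e3 | e3 <;>
        rw [e0, e1, e2, e3] at hsum <;> simp only [Set.ncard_empty, c0, c1, c2, c3] at hsum <;>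
        first | omega | exact ⟨by omega, by omega, e3, e0, e1, e2⟩
    obtain ⟨hl, hm, e3, e0, e1, e2⟩ := key
    refine ⟨hl, hm, Set.ext fun w => ?_⟩
    rw [hA4, e3, e0, e1, e2]
    simp only [Set.union_empty, Set.mem_union, Set.mem_ofPred_eq]
    constructor
    · intro hh
      have hw : InB w := by rcases hh with (hh | hh) | hh <;> exact hh.2.1
      exact ⟨hw, (adj_iff_orb h13 hw).mpr (or_assoc.mp hh)⟩
    · rintro ⟨hw, hadj⟩
      exact or_assoc.mpr ((adj_iff_orb h13 hw).mp hadj)
  obtain ⟨hl, hm, hAeq⟩ := hfin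
  refine ⟨fun v w hv hw => ?_, fun y hy => (hCμ y hy).trans hm, fun x y hxy => (hpair x y hxy).trans hl⟩
  obtain ⟨m, hm', rfl⟩ := trans_B hv
  obtain ⟨w, rfl⟩ := m.surjective w
  have hw' : InB w := (inB_M0 hm').mp hw
  have e1 : β (m 13) = P ⟨m, hm'⟩ (β 13) := (L.equiv ⟨m, hm'⟩ 13 h13).symm
  have e2 : β (m w) = P ⟨m, hm'⟩ (β w) := (L.equiv ⟨m, hm'⟩ w hw').symm
  rw [e1, e2, rel_P h hP L, adj_M (M0_le_M hm')]
  have := Set.ext_iff.mp hAeq w
  simpa [hA, hw'] using this

open scoped Classical in
/-- Collinear points meet the set of a point of the second suborbit in four or five points. -/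
theorem equation {x : Ω} (hx : Rel G a c a x) {z : V} (hz : InB z) :
    (({w | Orb 0 z w} ∩ SS G a b β x).ncard : ℤ) = (if z ∈ SS G a b β x then 5 else 4) := by
  classical
  obtain ⟨hR, hμ, hl⟩ := parameters h hP L
  let Cf := Finset.univ.filter fun y => Rel G a c a y
  let N := Finset.univ.filter fun w => Orb 0 z w
  let χ : V → Ω → ℤ := fun i y => if Rel G a b y (β i) then 1 else 0
  have hN : N.card = 10 := by
    have := card_orb (k := 0) (by norm_num) hz
    rw [← Set.ncard_coe_finset]
    simpa [N, orbSize] using this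
  have hC : Cf.card = 2304 := by rw [← h.cardC, ← Set.ncard_coe_finset]; simp [Cf]
  have pair : ∀ i j, InB i → InB j → ({y | Rel G a b (β i) y} ∩ {y | Rel G a b (β j) y}).ncard =
      1 + {u : V | InB u ∧ AdjS i u ∧ AdjS j u}.ncard +
        ({y | Rel G a b (β i) y} ∩ {y | Rel G a b (β j) y} ∩ {y | Rel G a c a y}).ncard := by
    intro i j hi hj
    rw [split_ncard h ({y | Rel G a b (β i) y} ∩ {y | Rel G a b (β j) y})]
    congr 2
    · rw [Set.inter_eq_right.mpr (Set.singleton_subset_iff.mpr
        (show a ∈ {y | Rel G a b (β i) y} ∩ {y | Rel G a b (β j) y} from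
          ⟨rel_symm h (L.mem i hi), rel_symm h (L.mem j hj)⟩)), Set.ncard_singleton]
    · rw [B_inter h hP L]
      congr 1
      ext u
      simp only [Set.mem_ofPred_eq, Set.mem_inter_iff]
      exact and_congr_right fun hu => by rw [hR i u hi hu, hR j u hj hu]
  have h2 : ∀ i j, ∑ y ∈ Cf, χ i y * χ j y =
      (({y | Rel G a b (β i) y} ∩ {y | Rel G a b (β j) y} ∩ {y | Rel G a c a y}).ncard : ℤ) := by
    intro i j
    have e : ∀ y, χ i y * χ j y = if Rel G a b y (β i) ∧ Rel G a b y (β j) then 1 else 0 := fun y => by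
      simp only [χ]; split_ifs <;> simp_all
    simp only [e, Finset.sum_boole]
    rw [Nat.cast_inj, ← Set.ncard_coe_finset]
    congr 1
    ext y
    simp only [Cf, Finset.coe_filter, Finset.mem_filter, Finset.mem_univ, true_and, Set.mem_inter_iff,
      Set.mem_ofPred_eq]
    exact ⟨fun ⟨h1, h2, h3⟩ => ⟨⟨rel_symm h h2, rel_symm h h3⟩, h1⟩,
      fun ⟨⟨h2, h3⟩, h1⟩ => ⟨h1, rel_symm h h2, rel_symm h h3⟩⟩
  have kadj : ∀ k, k < 2 → ∀ i j, Orb k i j → ∑ y ∈ Cf, χ i y * χ j y = 729 - (ccVal k : ℤ) := by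
    intro k hk i j ho
    obtain ⟨hi, hj, h3⟩ := ho
    rw [if_pos (by omega)] at h3
    have := pair i j hi hj
    rw [hl _ _ ((hR i j hi hj).mpr h3.1), show {u : V | InB u ∧ AdjS i u ∧ AdjS j u}.ncard = ccVal k from h3.2] at this
    rw [h2]
    interval_cases k <;> simp only [ccVal] at this ⊢ <;> omega
  have kself : ∀ i, InB i → ∑ y ∈ Cf, χ i y * χ i y = 1024 := by
    intro i hi
    have := pair i i hi hi
    rw [Set.inter_self, ncard_nbhd h] at this
    have e : {u : V | InB u ∧ AdjS i u ∧ AdjS i u}.ncard = 730 := by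
      obtain ⟨m, hm, rfl⟩ := trans_B hi
      rw [← hl a (β 13) (L.mem 13 inB13.1), Set.inter_comm, B_inter h hP L,
        show {u : V | InB u ∧ AdjS (m 13) u ∧ AdjS (m 13) u} = m '' {u : V | InB u ∧ AdjS 13 u ∧ AdjS 13 u} by
          ext u
          obtain ⟨u, rfl⟩ := m.surjective u
          rw [m.injective.mem_set_image]
          simp only [Set.mem_ofPred_eq, inB_M0 hm, adj_M (M0_le_M hm)],
        Set.ncard_image_of_injective _ m.injective]
      congr 1
      ext u
      simp only [Set.mem_ofPred_eq, and_self]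
      exact and_congr_right fun hu => (hR 13 u inB13.1 hu).symm
    rw [e] at this
    rw [h2, Set.inter_self]
    omega
  have hrow : ∀ i ∈ N, ∑ j ∈ N, ∑ y ∈ Cf, χ i y * χ j y = 4608 := by
    intro i hi
    have hzi : Orb 0 z i := by simpa [N] using hi
    let N1 := N.filter fun j => Orb 0 i j
    let N2 := N.filter fun j => Orb 1 i j
    have c1 : N1.card = 1 := by
      rw [← (near_near hzi).1, ← Set.ncard_coe_finset]; simp [N1, N, Set.setOf_and]
    have c2 : N2.card = 8 := by
      rw [← (near_near hzi).2, ← Set.ncard_coe_finset]; simp [N2, N, Set.setOf_and]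
    have d12 : Disjoint N1 N2 := Finset.disjoint_left.mpr fun j hj hj' => absurd
      (orb_unique (j := 0) (k := 1) (by norm_num) (by norm_num) (Finset.mem_filter.mp hj).2
        (Finset.mem_filter.mp hj').2) (by norm_num)
    have irrefl : ∀ k, k < 2 → ¬ Orb k i i := by
      rintro k hk ⟨-, -, h3⟩
      rw [if_pos (by omega)] at h3
      exact not_adj_self i h3.1
    have di : i ∉ N1 ∪ N2 := by
      intro hmem
      rcases Finset.mem_union.mp hmem with hh | hh
      · exact irrefl 0 (by norm_num) (Finset.mem_filter.mp hh).2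
      · exact irrefl 1 (by norm_num) (Finset.mem_filter.mp hh).2
    have eN : N = insert i (N1 ∪ N2) := by
      refine (Finset.eq_of_subset_of_card_le ?_ ?_).symm
      · intro j hj
        rcases Finset.mem_insert.mp hj with rfl | hh
        · exact hi
        · rcases Finset.mem_union.mp hh with hh | hh <;> exact (Finset.mem_filter.mp hh).1
      · rw [Finset.card_insert_of_notMem di, Finset.card_union_of_disjoint d12, c1, c2, hN]
    rw [eN, Finset.sum_insert di, Finset.sum_union d12, kself i hzi.2.1,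
      Finset.sum_congr rfl fun j hj => kadj 0 (by norm_num) i j (Finset.mem_filter.mp hj).2,
      Finset.sum_congr rfl fun j hj => kadj 1 (by norm_num) i j (Finset.mem_filter.mp hj).2,
      Finset.sum_const, Finset.sum_const, c1, c2]
    simp [ccVal]
  let f : Ω → ℤ := fun y => (∑ i ∈ N, χ i y) - χ z y - 4
  have h1 : ∀ i, InB i → ∑ y ∈ Cf, χ i y = 1024 := fun i hi => by
    rw [← kself i hi]
    exact Finset.sum_congr rfl fun y _ => by simp only [χ]; split_ifs <;> rfl
  have hNB : ∀ i ∈ N, InB i := fun i hi => (show Orb 0 z i by simpa [N] using hi).2.1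
  have expand : ∑ y ∈ Cf, f y * f y = 0 := by
    have e : ∀ y, f y * f y = (∑ i ∈ N, ∑ j ∈ N, χ i y * χ j y) - 2 * (∑ i ∈ N, χ z y * χ i y) +
        χ z y * χ z y - 8 * (∑ i ∈ N, χ i y) + 8 * χ z y + 16 := fun y => by
      simp only [f]
      rw [← Finset.sum_mul_sum, ← Finset.mul_sum]
      ring
    have sA : ∑ y ∈ Cf, ∑ i ∈ N, ∑ j ∈ N, χ i y * χ j y = 46080 := by
      rw [Finset.sum_comm, Finset.sum_congr rfl fun i hi => (Finset.sum_comm).trans (hrow i hi), Finset.sum_const, hN]
      rfl
    have sB : ∑ y ∈ Cf, ∑ i ∈ N, χ z y * χ i y = 5120 := by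
      rw [Finset.sum_comm, Finset.sum_congr rfl fun i hi => kadj 0 (by norm_num) z i (by simpa [N] using hi),
        Finset.sum_const, hN]
      rfl
    have sC : ∑ y ∈ Cf, ∑ i ∈ N, χ i y = 10240 := by
      rw [Finset.sum_comm, Finset.sum_congr rfl fun i hi => h1 i (hNB i hi), Finset.sum_const, hN]
      rfl
    rw [Finset.sum_congr rfl fun y _ => e y, Finset.sum_add_distrib, Finset.sum_add_distrib, Finset.sum_sub_distrib,
      Finset.sum_add_distrib, Finset.sum_sub_distrib, ← Finset.mul_sum Cf (fun y => ∑ i ∈ N, χ z y * χ i y) (2 : ℤ),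
      ← Finset.mul_sum Cf (fun y => ∑ i ∈ N, χ i y) (8 : ℤ),
      ← Finset.mul_sum Cf (fun y => χ z y) (8 : ℤ), Finset.sum_const, hC, sA, sB, sC, kself z hz, h1 z hz]
    rfl
  have hxC : x ∈ Cf := by simpa [Cf] using hx
  have h0 := (Finset.sum_eq_zero_iff_of_nonneg fun y _ => mul_self_nonneg (f y)).mp expand x hxC
  rw [mul_self_eq_zero] at h0
  have e1 : (({w | Orb 0 z w} ∩ SS G a b β x).ncard : ℤ) = ∑ i ∈ N, χ i x := by
    simp only [χ, Finset.sum_boole]
    rw [Nat.cast_inj, ← Set.ncard_coe_finset]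
    congr 1
    ext w
    simp only [N, SS, Finset.coe_filter, Finset.mem_filter, Finset.mem_univ, true_and, Set.mem_inter_iff,
      Set.mem_ofPred_eq]
    exact ⟨fun ⟨h1, _, h2⟩ => ⟨h1, h2⟩, fun ⟨h1, h2⟩ => ⟨h1, h1.2.1, h2⟩⟩
  have e2 : (if z ∈ SS G a b β x then (5 : ℤ) else 4) = χ z x + 4 := by
    simp only [χ, SS, Set.mem_ofPred_eq, hz, true_and]
    split_ifs <;> rfl
  rw [e1, e2]
  simp only [f] at h0
  linarith

end

theorem wM_congr {u v : List ℕ} (hu : LettersH u) (hv : LettersH v) (h : sameW u v = true) : wM u = wM v :=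
  Subtype.ext (by rw [wM_val hu, wM_val hv, wperm_congr hu.1 hv.1 h])

theorem five_cert : LettersH fiveA ∧ LettersH fiveB ∧ sameW (List.replicate 5 fiveA).flatten [] = true ∧
    sameW (List.replicate 5 fiveB).flatten [] = true ∧ sameW (fiveA ++ fiveB) (fiveB ++ fiveA) = true := by
  decide +kernel

/-- The two commuting elements of order five. -/
noncomputable def Five : Subgroup M0 := Subgroup.closure {wM fiveA, wM fiveB}

theorem five_isPGroup : IsPGroup 5 Five := by
  haveI : Fact (Nat.Prime 5) := ⟨Nat.prime_five⟩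
  obtain ⟨la, lb, ha, hb, hab⟩ := five_cert
  have pa : wM fiveA ^ 5 = 1 := by
    rw [← (wM_pow la 5).2, ← wM_nil]
    exact wM_congr (wM_pow la 5).1 (by decide) ha
  have pb : wM fiveB ^ 5 = 1 := by
    rw [← (wM_pow lb 5).2, ← wM_nil]
    exact wM_congr (wM_pow lb 5).1 (by decide) hb
  have hc : Commute (wM fiveA) (wM fiveB) := by
    have := wM_congr (la.append lb) (lb.append la) hab
    rw [wM_append la lb, wM_append lb la] at this
    exact this.symm
  intro q
  refine ⟨1, Subtype.ext ?_⟩
  show (q : M0) ^ (5 ^ 1) = 1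
  rw [pow_one]
  have key : ∀ x ∈ Five, x ^ 5 = 1 ∧ Commute x (wM fiveA) ∧ Commute x (wM fiveB) := by
    intro x hx
    rw [Five, ← Subgroup.mem_toSubmonoid, Subgroup.closure_toSubmonoid_of_finite] at hx
    induction hx using Submonoid.closure_induction with
    | mem x hx =>
      rcases hx with rfl | rfl
      exacts [⟨pa, Commute.refl _, hc⟩, ⟨pb, hc.symm, Commute.refl _⟩]
    | one => exact ⟨one_pow _, Commute.one_left _, Commute.one_left _⟩
    | mul x y hx' hy' hx hy =>
      have hxy : Commute x y := by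
        clear hx
        induction hx' using Submonoid.closure_induction with
        | mem x hx =>
          rcases hx with rfl | rfl
          exacts [hy.2.1.symm, hy.2.2.symm]
        | one => exact Commute.one_left _
        | mul u v _ _ hu hv => exact hu.mul_left hv
      exact ⟨by rw [hxy.mul_pow, hx.1, hy.1, one_mul], hx.2.1.mul_left hy.2.1, hx.2.2.mul_left hy.2.2⟩
  exact (key q q.2).1

/-- The pattern of a point on the keys. -/
def keyPat (v : ℕ) : ℕ := maskOf ((List.range keyC.length).filter fun k => (rowOf (keyC.getD k 0)).testBit v)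

theorem keys_ok : (keyC.all fun p => rowPts.contains p && maskB.testBit p) = true ∧
    ((List.range 2304).all fun i => decide (getA cOrder i < 4060) &&
      (decide (i = 0) || decide (keyPat (getA cOrder (i - 1)) < keyPat (getA cOrder i)))) = true ∧
    ((List.range 2304).map (getA cOrder)).all (fun v => (maskOf listC).testBit v) = true := by
  decide +kernel

/-- A point of the second suborbit is determined by its neighbours in the first. -/
theorem stdS_inj {z z' : V} (hz : InC z) (hz' : InC z') (h : stdS z = stdS z') : z = z' := by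
  classical
  obtain ⟨hkey, hord, hC⟩ := keys_ok
  simp only [List.all_eq_true, Bool.and_eq_true, List.contains_iff_mem] at hkey
  have hlt : ∀ i < 2304, getA cOrder i < 4060 := fun i hi => by
    have := List.all_eq_true.mp hord i (List.mem_range.mpr hi)
    simp only [Bool.and_eq_true, decide_eq_true_eq] at this
    exact this.1
  have mono : ∀ i j, i < j → j < 2304 → keyPat (getA cOrder i) < keyPat (getA cOrder j) := by
    intro i j hij
    induction j, hij using Nat.le_induction with
    | base =>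
      intro hb
      have := List.all_eq_true.mp hord (i + 1) (List.mem_range.mpr hb)
      simp only [Bool.and_eq_true, decide_eq_true_eq, Bool.or_eq_true, Nat.add_sub_cancel, Nat.succ_ne_zero,
        false_or] at this
      exact this.2
    | succ j hle ih =>
      intro hb
      have := List.all_eq_true.mp hord (j + 1) (List.mem_range.mpr hb)
      simp only [Bool.and_eq_true, decide_eq_true_eq, Bool.or_eq_true, Nat.add_sub_cancel, Nat.succ_ne_zero,
        false_or] at this
      exact (ih (by omega)).trans this.2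
  let f : Fin 2304 → {v // InC v} := fun i => ⟨⟨_, hlt i i.isLt⟩, (inC_iff _).mpr (mem_of_maskOf.mp
    (List.all_eq_true.mp hC _ (List.mem_map_of_mem (List.mem_range.mpr i.isLt))))⟩
  have finj : Function.Injective f := fun i j e => by
    have e' : getA cOrder i = getA cOrder j := congrArg (fun v : {v // InC v} => v.1.val) e
    rcases lt_trichotomy i.val j.val with hh | hh | hh
    · exact absurd (congrArg keyPat e') (mono _ _ hh j.isLt).ne
    · exact Fin.ext hh
    · exact absurd (congrArg keyPat e'.symm) (mono _ _ hh i.isLt).ne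
  have fbij : Function.Bijective f := (Nat.bijective_iff_injective_and_card f).mpr ⟨finj, by
    rw [Nat.card_fin, show Nat.card {v // InC v} = 2304 from (Nat.card_coe_set_eq _).trans card_InC]⟩
  obtain ⟨i, hi⟩ := fbij.2 ⟨z, hz⟩
  obtain ⟨j, hj⟩ := fbij.2 ⟨z', hz'⟩
  have hpat : keyPat z.val = keyPat z'.val := by
    refine Nat.eq_of_testBit_eq fun k => ?_
    rw [Bool.eq_iff_iff, keyPat, keyPat, mem_of_maskOf, mem_of_maskOf, List.mem_filter, List.mem_filter, List.mem_range]
    refine and_congr_right fun hk => ?_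
    obtain ⟨hr, hB⟩ := hkey (keyC.getD k 0) (by rw [List.getD_eq_getElem _ _ hk]; exact List.getElem_mem hk)
    have hp : keyC.getD k 0 < 4060 := by
      rw [← trees_ok.1.2.2, mem_of_maskOf] at hB
      exact lt_of_mem (Or.inl rfl) hB
    have h' : AdjS z ⟨_, hp⟩ ↔ AdjS z' ⟨_, hp⟩ := by
      have := Set.ext_iff.mp h ⟨_, hp⟩
      have hB' : InB (⟨_, hp⟩ : V) := (hkey (keyC.getD k 0) (by rw [List.getD_eq_getElem _ _ hk]; exact List.getElem_mem hk)).2
      exact ⟨fun hh => (this.mp ⟨hB', hh⟩).2, fun hh => (this.mpr ⟨hB', hh⟩).2⟩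
    rw [adj_comm z, adj_comm z', row_spec (p := ⟨_, hp⟩) hr, row_spec (p := ⟨_, hp⟩) hr] at h'
    exact h'
  have ez : getA cOrder i = z.val := congrArg (fun v : {v // InC v} => v.1.val) hi
  have ez' : getA cOrder j = z'.val := congrArg (fun v : {v // InC v} => v.1.val) hj
  rw [← ez, ← ez'] at hpat
  rcases lt_trichotomy i.val j.val with hh | hh | hh
  · exact absurd hpat (mono _ _ hh j.isLt).ne
  · exact Fin.ext (by rw [← ez, ← ez', hh])
  · exact absurd hpat.symm (mono _ _ hh i.isLt).ne

section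

variable (h : Hyp G a b c) {P : M0 →* Equiv.Perm Ω} (hP : IsAct G a P)

include h hP

/-- A point of the second suborbit fixed by the group of order 25. -/
theorem exists_fixed : ∃ y, Rel G a c a y ∧ P (wM fiveA) y = y ∧ P (wM fiveB) y = y := by
  haveI : Fact (Nat.Prime 5) := ⟨Nat.prime_five⟩
  letI : MulAction Five {y // Rel G a c a y} :=
    { smul := fun q y => ⟨P (q : M0) y.1, by
        have := y.2.map (hP.mem q)
        rwa [hP.fix] at this⟩
      one_smul := fun y => Subtype.ext (by show P ((1 : Five) : M0) y.1 = y.1; simp)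
      mul_smul := fun q r y => Subtype.ext (by
        show P ((q * r : Five) : M0) y.1 = P (q : M0) (P (r : M0) y.1)
        simp) }
  obtain ⟨y, hy⟩ := five_isPGroup.nonempty_fixed_point_of_prime_not_dvd_card {y // Rel G a c a y} (by
    rw [show Nat.card {y // Rel G a c a y} = 2304 from (Nat.card_coe_set_eq _).trans h.cardC]
    norm_num)
  exact ⟨y.1, y.2, congrArg Subtype.val (hy ⟨_, Subgroup.subset_closure (Set.mem_insert _ _)⟩),
    congrArg Subtype.val (hy ⟨_, Subgroup.subset_closure (Set.mem_insert_of_mem _ rfl)⟩)⟩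

/-- The points are the standard points. -/
theorem exists_coords : ∃ π : V ≃ Ω, π 0 = a ∧ (∀ i j, Rel G a b (π i) (π j) ↔ AdjS i j) ∧
    ∀ g ∈ G, g a = a → ∃ m ∈ M0, ∀ v, g (π v) = π (m v) := by
  classical
  obtain ⟨y0, hy0, hyA, hyB⟩ := exists_fixed h hP
  obtain ⟨β, L⟩ := exists_lab h hP
  obtain ⟨hR, hμ, hl⟩ := parameters h hP L
  let S : Ω → Set V := SS G a b β
  have Pmem : ∀ m y, Rel G a c a y → Rel G a c a (P m y) := fun m y hy => by
    have := hy.map (hP.mem m)
    rwa [hP.fix] at this
  have hinv : ∀ m : M0, P m y0 = y0 → ∀ v ∈ S y0, (m : Equiv.Perm V) v ∈ S y0 := fun m hm v hv => by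
    have := SS_P h hP L m y0
    rw [hm] at this
    exact (Set.ext_iff.mp this _).mpr (Set.mem_image_of_mem _ hv)
  have heq := fun z (hz : InB z) => equation h hP L hy0 hz
  obtain ⟨z0, hz0, hS0⟩ : ∃ z, InC z ∧ S y0 = stdS z := by
    refine (invariant_set (S y0) (fun v hv => hv.1) (fun v hv => ?_) (fun v hv hn => ?_) (hinv _ hyA)
      (hinv _ hyB)).resolve_right ?_
    · have := heq v hv.1
      rw [if_pos hv] at this
      exact_mod_cast this
    · have := heq v hv
      rw [if_neg hn] at this
      exact_mod_cast this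
    · rintro ⟨f, hf⟩
      let F : Fin 2305 → {y // Rel G a c a y} := fun j => ⟨P (f j) y0, Pmem _ _ hy0⟩
      have hF : Function.Injective F := fun i j e => hf (by
        have := congrArg (fun y : {y // Rel G a c a y} => S y.1) e
        simpa only [F, S, SS_P h hP L] using this)
      have := Nat.card_le_card_of_injective F hF
      rw [Nat.card_fin, show Nat.card {y // Rel G a c a y} = 2304 from (Nat.card_coe_set_eq _).trans h.cardC] at this
      omega
  have stdMap : ∀ (m : M0) z, stdS ((m : Equiv.Perm V) z) = (m : Equiv.Perm V) '' stdS z := by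
    intro m z
    ext v
    obtain ⟨v, rfl⟩ := (m : Equiv.Perm V).surjective v
    rw [(m : Equiv.Perm V).injective.mem_set_image]
    simp [stdS, inB_M0 m.2, adj_M (M0_le_M m.2)]
  have hex : ∀ z, InC z → ∃ y, Rel G a c a y ∧ S y = stdS z := by
    intro z hz
    obtain ⟨g, hg, e⟩ := trans_C hz0
    obtain ⟨k, hk, e'⟩ := trans_C hz
    let m : M0 := ⟨k * g⁻¹, mul_mem hk (inv_mem hg)⟩
    have em : (m : Equiv.Perm V) z0 = z := by
      show (k * g⁻¹) z0 = z
      rw [Equiv.Perm.mul_apply, Equiv.Perm.inv_eq_iff_eq.mpr e.symm, e']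
    refine ⟨P m y0, Pmem m _ hy0, ?_⟩
    rw [← em, stdMap, ← hS0]
    exact SS_P h hP L m y0
  choose γ hγC hγS using hex
  have γbij : ∀ y, Rel G a c a y → ∃ z, ∃ hz : InC z, γ z hz = y := by
    let f : {z // InC z} → {y // Rel G a c a y} := fun z => ⟨γ z.1 z.2, hγC z.1 z.2⟩
    have hf : Function.Bijective f := (Nat.bijective_iff_injective_and_card f).mpr
      ⟨fun v w e => Subtype.ext (stdS_inj v.2 w.2 (by
        rw [← hγS v.1 v.2, ← hγS w.1 w.2]; exact congrArg (fun y : {y // Rel G a c a y} => S y.1) e)), by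
        rw [show Nat.card {z // InC z} = 2304 from (Nat.card_coe_set_eq _).trans card_InC,
          show Nat.card {y // Rel G a c a y} = 2304 from (Nat.card_coe_set_eq _).trans h.cardC]⟩
    intro y hy
    obtain ⟨⟨z, hz⟩, e⟩ := hf.2 ⟨y, hy⟩
    exact ⟨z, hz, congrArg Subtype.val e⟩
  have Sinj : ∀ x y, Rel G a c a x → Rel G a c a y → S x = S y → x = y := by
    intro x y hx hy e
    obtain ⟨v, hv, rfl⟩ := γbij x hx
    obtain ⟨w, hw, rfl⟩ := γbij y hy
    rw [hγS, hγS] at e
    obtain rfl := stdS_inj hv hw e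
    rfl
  let p : V → Ω := fun v => if hv : InB v then β v else if hC : InC v then γ v hC else a
  have pB : ∀ v, InB v → p v = β v := fun v hv => dif_pos hv
  have pC : ∀ v (hv : InC v), p v = γ v hv := fun v hv => by simp only [p, dif_neg hv.2, dif_pos hv]
  have p0 : p 0 = a := by
    have : ¬ InC 0 := fun hh => hh.1 rfl
    simp [p, zero_notB, this]
  have pinj : Function.Injective p := by
    intro v w e
    rcases classify v with rfl | hv | hv <;> rcases classify w with rfl | hw | hw
    · rfl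
    · rw [p0, pB w hw] at e
      exact absurd (e ▸ L.mem w hw) (not_rel_self h a)
    · rw [p0, pC w hw] at e
      exact absurd (e ▸ hγC w hw) (not_C_self h)
    · rw [p0, pB v hv] at e
      exact absurd (e.symm ▸ L.mem v hv) (not_rel_self h a)
    · rw [pB v hv, pB w hw] at e
      exact L.inj v w hv hw e
    · rw [pB v hv, pC w hw] at e
      exact (disjoint_BC h (L.mem v hv) (e ▸ hγC w hw)).elim
    · rw [p0, pC v hv] at e
      exact absurd (e.symm ▸ hγC v hv) (not_C_self h)
    · rw [pB w hw, pC v hv] at e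
      exact (disjoint_BC h (L.mem w hw) (e.symm ▸ hγC v hv)).elim
    · rw [pC v hv, pC w hw] at e
      exact stdS_inj hv hw (by rw [← hγS v hv, ← hγS w hw, e])
  have pbij : Function.Bijective p :=
    (Fintype.bijective_iff_injective_and_card p).mpr ⟨pinj, by rw [h.card, Fintype.card_fin]⟩
  have hlift : ∀ (m : M0) v, P m (p v) = p ((m : Equiv.Perm V) v) := by
    intro m v
    rcases classify v with rfl | hv | hv
    · rw [p0, hP.fix, M0_zero m.2, p0]
    · rw [pB v hv, pB _ ((inB_M0 m.2).mpr hv), L.equiv m v hv]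
    · have hmv := (inC_M0 m.2).mpr hv
      rw [pC v hv, pC _ hmv]
      refine Sinj _ _ (Pmem m _ (hγC v hv)) (hγC _ hmv) ?_
      show SS G a b β _ = _
      rw [SS_P h hP L, show SS G a b β (γ v hv) = stdS v from hγS v hv, ← stdMap, ← hγS _ hmv]
  -- the second suborbit
  have h1 : InC 1 := inB13.2
  have hCC : ∀ w, InC w → (Rel G a b (p 1) (p w) ↔ AdjS 1 w) := by
    set R : Set V := {w | InC w ∧ Rel G a b (p 1) (p w)} with hR'
    have h1R : ∀ v ∈ R, InC v ∧ v ≠ 1 := fun v hv => ⟨hv.1, fun e => not_rel_self h (p 1) (e ▸ hv.2)⟩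
    have hinvR : ∀ m ∈ M0, m 1 = 1 → ∀ v, v ∈ R → m v ∈ R := by
      intro m hm e1 v hv
      refine ⟨(inC_M0 hm).mpr hv.1, ?_⟩
      have := (rel_P h hP L ⟨m, hm⟩).mpr hv.2
      rw [hlift, hlift] at this
      change Rel G a b (p (m 1)) (p (m v)) at this
      rwa [e1] at this
    have hcard : R.ncard = 975 := by
      have hs := split_ncard h {y | Rel G a b (p 1) y}
      rw [ncard_nbhd h] at hs
      have hy1 : Rel G a c a (p 1) := pC 1 h1 ▸ hγC 1 h1
      have e0 : ({y | Rel G a b (p 1) y} ∩ {a}).ncard = 0 := by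
        rw [Set.ncard_eq_zero (Set.toFinite _)]
        refine Set.eq_empty_of_forall_notMem ?_
        rintro z ⟨hz, rfl⟩
        exact disjoint_BC h (rel_symm h hz) hy1
      have e1 : ({y | Rel G a b (p 1) y} ∩ {y | Rel G a b a y}).ncard = 780 := by
        rw [B_inter h hP L]; exact hμ _ hy1
      have e2 : ({y | Rel G a b (p 1) y} ∩ {y | Rel G a c a y}).ncard = R.ncard := by
        rw [← Set.ncard_image_of_injective R pinj]
        congr 1
        ext y
        constructor
        · rintro ⟨hr, hy⟩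
          obtain ⟨w, hw, rfl⟩ := γbij y hy
          exact ⟨w, ⟨hw, by rw [pC w hw]; exact hr⟩, pC w hw⟩
        · rintro ⟨w, ⟨hw, hr⟩, rfl⟩
          exact ⟨hr, pC w hw ▸ hγC w hw⟩
      omega
    have := invariant_part h1R hinvR hcard
    intro w hw
    have := Set.ext_iff.mp this w
    simpa [hR', hw] using this
  refine ⟨Equiv.ofBijective p pbij, p0, ?_, fun g hg ga => ?_⟩
  · intro i j
    show Rel G a b (p i) (p j) ↔ AdjS i j
    have h0 : ∀ j, Rel G a b a (p j) ↔ AdjS 0 j := by
      intro j
      rw [adj_zero]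
      rcases classify j with rfl | hj | hj
      · rw [p0]; exact iff_of_false (not_rel_self h a) zero_notB
      · rw [pB j hj]; exact iff_of_true (L.mem j hj) hj
      · rw [pC j hj]
        exact iff_of_false (fun hr => disjoint_BC h hr (hγC j hj)) hj.2
    have hsym : ∀ x y, Rel G a b x y ↔ Rel G a b y x := fun x y => ⟨rel_symm h, rel_symm h⟩
    have hCB : ∀ z v, InC z → InB v → (Rel G a b (p z) (p v) ↔ AdjS z v) := fun z v hz hv => by
      rw [pB v hv, pC z hz]
      have := Set.ext_iff.mp (hγS z hz) v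
      simpa [S, SS, stdS, hv] using this
    rcases classify i with rfl | hi | hi
    · rw [p0]; exact h0 j
    · rcases classify j with rfl | hj | hj
      · rw [p0, hsym, adj_comm]; exact h0 i
      · rw [pB i hi, pB j hj]; exact hR i j hi hj
      · rw [hsym, adj_comm]; exact hCB j i hj hi
    · rcases classify j with rfl | hj | hj
      · rw [p0, hsym, adj_comm]; exact h0 i
      · exact hCB i j hi hj
      · obtain ⟨m, hm, rfl⟩ := trans_C hi
        obtain ⟨w, rfl⟩ := m.surjective j
        rw [show p (m 1) = P ⟨m, hm⟩ (p 1) from (hlift ⟨m, hm⟩ 1).symm,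
          show p (m w) = P ⟨m, hm⟩ (p w) from (hlift ⟨m, hm⟩ w).symm, rel_P h hP L, adj_M (M0_le_M hm)]
        exact hCC w ((inC_M0 hm).mp hj)
  · obtain ⟨m, rfl⟩ := hP.surj g hg ga
    exact ⟨m, m.2, fun v => hlift m v⟩

end

end CfsgLib.RuRankThree
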