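import Mathlib.Data.List.Range

/-!
# The Ree group as the point stabiliser
-/

set_option autoImplicit false
set_option maxRecDepth 40000
set_option maxHeartbeats 4000000

namespace CfsgLib.RuRankThree

/-- Words in the generators of the Ree group for the images. -/
def genImg : List (List Nat) := [[0,5,1,4,1,2,0,1,5,3,1,5,0,2,2,2,0,2],
  [0,1,2,4,1,4,4,4,0,1,5,2,0,2,1,4,1,0],
  [1,2,0,4,1,4,4,4,0,3,1,4,4,4,1,0,2,0,2,2,2],
  [2,2,2,0,2,0,2,0,2,2,2,1,0],
  [5,2,2,2,0,1,3,5,1,0,2,0,2,5,1,4,2,0]]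

/-- Conjugates of the generators of the Tits subgroup. -/
def conjW : List (List Nat) := [[1,0,3,1,0,3,1,3,0,3,2,0,1,2,0,1,3,0,1],
  [0,3,0,2,0,3,1,3,0,3,1,3,0,2,0,3,0],
  [3,1,0,3,2,1,0,3,2,0,3,0,1,0,3],
  [0,2,3,0,1,2,1,0,2,0,2,1,2,0,3,0]]

/-- The square. -/
def sqW : List Nat := [2,1,3,0,1,3,0,1,0,3,0,2,1,3,1]

/-- Words with two common fixed points. -/
def centW : List (List Nat) := [[2,3,2,3],
  [0,1,2,3,1,0],
  [1,3,0,1,0,3,1],
  [2,0,3,1,3,0,2]]

/-- Words from the first point of the second suborbit to two base points. -/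
def base4W (p : Nat) : List Nat := if p = 3 then [1] else [0]

end CfsgLib.RuRankThree
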