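import Cfsg.Agent.RuRankThree.Basic
import Cfsg.Agent.RuRankThree.DataIso
import Cfsg.Agent.TitsMult.Elems

/-!
# The point stabiliser is the Ree group over two elements

The pairs of generators span a group of order at most twice that of the Tits group, and both projections are onto.
-/

set_option autoImplicit false
set_option maxRecDepth 100000
set_option maxHeartbeats 1000000
set_option linter.style.haveILetI false
set_option Elab.async false

namespace CfsgLib.RuRankThree

open CfsgLib.Coset CfsgLib.TitsMult Cfsg.Lie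

attribute [local irreducible] Ru.Pts.Tb

/-- The Ree group. -/
abbrev F : Type := ↥(twistedF4 (ZMod 2) 1)

/-- The image of a generator. -/
noncomputable def himg (l : ℕ) : F := CfsgLib.ExtCert.ev genE (genImg.getD l [])

/-- The code of a generator. -/
def hcode (l : ℕ) : ℕ := CfsgLib.CentralCert.tab one mul genCodes (genImg.getD l [])

/-- The code of a word in the images. -/
def hword (w : List ℕ) : ℕ := w.foldr (fun l r => mul (hcode l) r) one

theorem gcode_himg (l : ℕ) : gcode (himg l) = hcode l := gcode_ev _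

/-- A word in the images. -/
noncomputable def hev (w : List ℕ) : F := (w.map himg).prod

theorem gcode_hev : ∀ w : List ℕ, gcode (hev w) = hword w
  | [] => gcode_one
  | l :: w => by
    rw [hev, List.map_cons, List.prod_cons, gcode_mul, gcode_himg, ← hev, gcode_hev w, hword, hword, List.foldr_cons]

theorem hev_eq {u v : List ℕ} (h : Nat.beq (hword u) (hword v) = true) : hev u = hev v :=
  gcode_injective (by rw [gcode_hev, gcode_hev]; exact Nat.eq_of_beq_eq_true h)

/-- The images of the four involutions. -/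
noncomputable def Lh : List F := [himg 0, himg 1, himg 2, himg 3]

theorem ev_Lh : ∀ w : List ℕ, (∀ l ∈ w, l < 4) → ev Lh w = hev w
  | [], _ => by simp [hev]
  | l :: w, h => by
    rw [ev_cons, ev_Lh w fun x hx => h x (List.mem_cons_of_mem _ hx)]
    have hl := h l (List.mem_cons_self ..)
    have e : fl Lh l = himg l := by
      interval_cases l <;> simp [fl, Lh]
    rw [e]
    simp [hev]

theorem rels_image : (Ru.rels4.all fun w => w.all (fun l => decide (l < 4)) && Nat.beq (hword w) (hword [])) = true := by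
  decide +kernel

theorem rels_Lh : ∀ w ∈ Ru.rels4, ev Lh w = 1 := by
  intro w hw
  have h := List.all_eq_true.mp rels_image w hw
  simp only [Bool.and_eq_true, List.all_eq_true, decide_eq_true_eq] at h
  rw [ev_Lh w h.1, hev_eq h.2]
  rfl

/-- The map of the Tits group. -/
noncomputable def φ : Ru.Q →* F := numHom (L := Lh) (show Lh.length = 4 by simp [Lh]) rels_Lh

theorem himg_zero_ne : himg 0 ≠ 1 := by
  intro h
  have := congrArg gcode h
  rw [gcode_himg, gcode_one] at this
  exact absurd this (by decide +kernel)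

theorem φ_injective : Function.Injective φ := by
  have := Ru.isSimple_Q
  rcases Subgroup.Normal.eq_bot_or_eq_top φ.normal_ker with h | h
  · exact (MonoidHom.ker_eq_bot_iff φ).mp h
  · exfalso
    have h0 : φ (fl Ru.Lq 0) = 1 := MonoidHom.mem_ker.mp (h ▸ Subgroup.mem_top _)
    rw [φ, numHom_fl] at h0
    exact himg_zero_ne (by simpa [fl, Lh] using h0)

/-- The pairs. -/
noncomputable def pairHom : Ru.Q →* Ru.P × F := Ru.ψ.prod φ

/-- The outer element of the point stabiliser. -/
noncomputable def t5 : Ru.P := ev Ru.Lp outW.reverse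

/-- The outer pair. -/
noncomputable def u5 : Ru.P × F := (t5, himg 4)

theorem evalP_congr {u v : List ℕ} (h : LettersOK u ∧ LettersOK v ∧ sameW u v = true) : ev Ru.Lp u = ev Ru.Lp v :=
  Ru.card_P.2 (inv_injective (wperm_congr h.1 h.2.1 h.2.2))

theorem ψ_ev : ∀ w : List ℕ, (∀ l ∈ w, l < 4) → Ru.ψ (ev Ru.Lq w) = ev Ru.Lp w
  | [], _ => by simp
  | l :: w, h => by
    rw [ev_cons, map_mul, ψ_ev w (fun x hx => h x (List.mem_cons_of_mem _ hx)), ev_cons, Ru.ψ, numHom_fl]
    have hl := h l (List.mem_cons_self ..)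
    congr 1
    interval_cases l <;> simp [fl, lv]

theorem φ_ev (w : List ℕ) (h : ∀ l ∈ w, l < 4) : φ (ev Ru.Lq w) = hev w := by
  rw [φ, numHom_ev, ev_Lh w h]

theorem conj_ok : ((List.range 4).all fun l =>
    (conjW.getD l []).all (fun x => decide (x < 4)) &&
    sameW (outW.reverse ++ [l]) (conjW.getD l [] ++ outW.reverse) &&
    decide (LettersOK (outW.reverse ++ [l]) ∧ LettersOK (conjW.getD l [] ++ outW.reverse)) &&
    Nat.beq (hword [4, l]) (hword (conjW.getD l [] ++ [4]))) = true ∧
    sqW.all (fun x => decide (x < 4)) = true ∧ sameW (outW.reverse ++ outW.reverse) sqW = true ∧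
    (LettersOK (outW.reverse ++ outW.reverse) ∧ LettersOK sqW) ∧ Nat.beq (hword [4, 4]) (hword sqW) = true := by
  decide +kernel

theorem hev_append (u v : List ℕ) : hev (u ++ v) = hev u * hev v := by simp [hev]

theorem conj_pair : ∀ q : Ru.Q, u5 * pairHom q * u5⁻¹ ∈ pairHom.range := by
  intro q
  have hq : q ∈ Subgroup.closure {x | x ∈ Ru.Lq} := Ru.closure_Lq ▸ Subgroup.mem_top q
  induction hq using Subgroup.closure_induction with
  | mem x hx =>
    obtain ⟨l, hl, rfl⟩ := List.getElem_of_mem hx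
    have hl4 : l < 4 := by rw [← Ru.len_Lq]; exact hl
    have h := List.all_eq_true.mp conj_ok.1 l (List.mem_range.mpr hl4)
    simp only [Bool.and_eq_true, List.all_eq_true, decide_eq_true_eq] at h
    obtain ⟨⟨⟨hc, hs⟩, hok⟩, hF⟩ := h
    have hw : ∀ x ∈ ([l] : List ℕ), x < 4 := fun x hx => by simp only [List.mem_singleton] at hx; omega
    refine ⟨ev Ru.Lq (conjW.getD l []), ?_⟩
    rw [eq_mul_inv_iff_mul_eq, show Ru.Lq[l] = ev Ru.Lq [l] by
      rw [ev_cons, ev_nil, mul_one, fl, List.getD_eq_getElem _ _ hl]; rfl]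
    refine Prod.ext ?_ ?_
    · show Ru.ψ _ * t5 = t5 * Ru.ψ _
      rw [ψ_ev _ hc, ψ_ev _ hw, t5, ← ev_append, ← ev_append]
      exact (evalP_congr ⟨hok.1, hok.2, hs⟩).symm
    · show φ _ * himg 4 = himg 4 * φ _
      rw [φ_ev _ hc, φ_ev _ hw, show himg 4 = hev [4] by simp [hev], ← hev_append, ← hev_append]
      exact (hev_eq hF).symm
  | one => exact ⟨1, by simp⟩
  | mul x y _ _ hx hy =>
    have := mul_mem hx hy
    rwa [show u5 * pairHom x * u5⁻¹ * (u5 * pairHom y * u5⁻¹) = u5 * pairHom (x * y) * u5⁻¹ by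
      rw [map_mul]; group] at this
  | inv x _ hx =>
    have := inv_mem hx
    rwa [show (u5 * pairHom x * u5⁻¹)⁻¹ = u5 * pairHom x⁻¹ * u5⁻¹ by rw [map_inv]; group] at this

theorem sq_pair : u5 * u5 ∈ pairHom.range := by
  obtain ⟨-, h4, hs, hok, hF⟩ := conj_ok
  simp only [List.all_eq_true, decide_eq_true_eq] at h4
  refine ⟨ev Ru.Lq sqW, Prod.ext ?_ ?_⟩
  · show Ru.ψ _ = t5 * t5
    rw [ψ_ev _ h4, t5, ← ev_append]
    exact (evalP_congr ⟨hok.1, hok.2, hs⟩).symm
  · show φ _ = himg 4 * himg 4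
    rw [φ_ev _ h4, show himg 4 = hev [4] by simp [hev], ← hev_append]
    exact (hev_eq hF).symm

/-- The group of pairs. -/
noncomputable def Γ : Subgroup (Ru.P × F) := pairHom.range ⊔ Subgroup.zpowers u5

theorem Γ_decomp : Finite Γ ∧ Nat.card Γ ≤ 35942400 := by
  classical
  have := Ru.card_Q_le.1
  have := Ru.card_P_le.1
  have hF : Finite F := inferInstanceAs (Finite ↥(twistedF4 (ZMod 2) 1))
  set N := pairHom.range
  have key : ∀ x ∈ Γ, x ∈ N ∨ u5⁻¹ * x ∈ N := by
    intro x hx
    rw [Γ, Subgroup.zpowers_eq_closure, show pairHom.range = Subgroup.closure (N : Set (Ru.P × F)) from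
      (Subgroup.closure_eq N).symm, ← Subgroup.closure_union, ← Subgroup.mem_toSubmonoid, Subgroup.closure_toSubmonoid_of_finite] at hx
    have conj' : ∀ n ∈ N, u5⁻¹ * n * u5 ∈ N := by
      rintro _ ⟨q, rfl⟩
      obtain ⟨q', hq'⟩ := conj_pair q
      have h2 : u5 * u5 ∈ N := sq_pair
      rw [show u5⁻¹ * pairHom q * u5 = (u5 * u5)⁻¹ * (u5 * pairHom q * u5⁻¹) * (u5 * u5) by group, ← hq']
      exact mul_mem (mul_mem (inv_mem h2) ⟨q', rfl⟩) h2
    induction hx using Submonoid.closure_induction with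
    | mem x hx =>
      rcases hx with hx | hx
      · exact Or.inl hx
      · rw [Set.mem_singleton_iff] at hx
        exact Or.inr (by rw [hx]; simp)
    | one => exact Or.inl (one_mem _)
    | mul x y _ _ hx hy =>
      rcases hx with hx | hx <;> rcases hy with hy | hy
      · exact Or.inl (mul_mem hx hy)
      · refine Or.inr ?_
        rw [show u5⁻¹ * (x * y) = (u5⁻¹ * x * u5) * (u5⁻¹ * y) by group]
        exact mul_mem (conj' _ hx) hy
      · refine Or.inr ?_
        rw [show u5⁻¹ * (x * y) = (u5⁻¹ * x) * y by group]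
        exact mul_mem hx hy
      · refine Or.inl ?_
        rw [show x * y = (u5 * u5) * (u5⁻¹ * (u5⁻¹ * x) * u5) * (u5⁻¹ * y) by group]
        exact mul_mem (mul_mem sq_pair (conj' _ hx)) hy
  refine ⟨inferInstance, ?_⟩
  let f : Γ → Bool × N := fun x =>
    if hx : (x : Ru.P × F) ∈ N then (false, ⟨x, hx⟩) else (true, ⟨u5⁻¹ * x, (key x x.2).resolve_left hx⟩)
  have hf : Function.Injective f := by
    intro x y e
    by_cases hx : (x : Ru.P × F) ∈ N <;> by_cases hy : (y : Ru.P × F) ∈ N <;>
      simp only [f, hx, hy, dite_true, dite_false, Prod.mk.injEq] at e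
    · exact Subtype.ext (Subtype.mk.inj e.2)
    · exact absurd e.1 (by decide)
    · exact absurd e.1 (by decide)
    · exact Subtype.ext (mul_left_cancel (Subtype.mk.inj e.2))
  refine (Nat.card_le_card_of_injective f hf).trans ?_
  have hN : Nat.card N ≤ 17971200 :=
    (Nat.card_le_card_of_surjective _ pairHom.rangeRestrict_surjective).trans Ru.card_Q_le.2
  rw [Nat.card_prod, Nat.card_eq_fintype_card, Fintype.card_bool]
  omega

theorem fst_mem_T {x : Ru.P × F} (hx : x ∈ Γ) : x.1 ∈ T := by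
  have : Γ ≤ T.comap (MonoidHom.fst Ru.P F) := by
    refine sup_le ?_ ((Subgroup.zpowers_le).mpr ?_)
    · rintro _ ⟨q, rfl⟩
      show Ru.ψ q ∈ T
      rw [T_eq]
      exact Ru.sub_le_pstab (Ru.range_ψ ▸ ⟨q, rfl⟩ : Ru.ψ q ∈ genW Ru.Lp Ru.Top.subs)
    · show t5 ∈ T
      rw [T_eq]
      exact (Ru.matches_ρ.mem_pstab_iff (w := outW.reverse) _ (by rw [Ru.len_Lp]; decide)).mpr (by decide +kernel)
  exact this hx

theorem T_le_fst : T ≤ Γ.map (MonoidHom.fst Ru.P F) := by
  rw [T, Subgroup.closure_le]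
  rintro _ ⟨w, hw, rfl⟩
  have h4 : ∀ l, l < 4 → ev Ru.Lp [l] ∈ Γ.map (MonoidHom.fst Ru.P F) := fun l hl => by
    refine ⟨pairHom (ev Ru.Lq [l]), le_sup_left (a := pairHom.range) ⟨_, rfl⟩, ?_⟩
    show Ru.ψ _ = _
    exact ψ_ev _ fun x hx => by simp only [List.mem_singleton] at hx; omega
  simp only [gensW, List.mem_cons, List.not_mem_nil, or_false] at hw
  rcases hw with rfl | rfl | rfl | rfl | rfl
  · exact h4 0 (by norm_num)
  · exact h4 1 (by norm_num)
  · exact h4 2 (by norm_num)
  · exact h4 3 (by norm_num)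
  · have e : ev Ru.Lp outW = (t5)⁻¹ := by
      have := wperm_reverse outW
      simp only [wperm, inv_inv] at this
      refine Ru.card_P.2 ?_
      rw [map_inv, t5, ← this]
    rw [e]
    exact inv_mem ⟨u5, le_sup_right (b := Subgroup.zpowers u5) (Subgroup.mem_zpowers _), rfl⟩

theorem cent_trivial {m : Ru.P} (hm : m ∈ T) (h : ∀ q : Ru.Q, m * Ru.ψ q = Ru.ψ q * m) : m = 1 := by
  have hq : ∀ w : List ℕ, (∀ l ∈ w, l < 4) → Ru.ρ m * wperm w = wperm w * Ru.ρ m := by
    intro w hw
    have := congrArg Ru.ρ (h (ev Ru.Lq w))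
    rw [ψ_ev w hw, map_mul, map_mul] at this
    exact (Commute.inv_right this).eq
  have hfix : ∀ v : V, (∀ w ∈ centW, app w v.val = v.val) → v = 0 ∨ v = 1 := by
    intro v hv
    have hall : ((List.range 4060).all fun v => v == 0 || v == 1 || !(centW.all fun w => app w v == v)) = true := by
      decide +kernel
    have := List.all_eq_true.mp hall v.val (List.mem_range.mpr v.isLt)
    simp only [Bool.or_eq_true, beq_iff_eq, Bool.not_eq_true', List.all_eq_false] at this
    rcases this with (e | e) | ⟨w, hw, e⟩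
    exacts [Or.inl (Fin.ext e), Or.inr (Fin.ext e), absurd (hv w hw) e]
  have cw : ∀ w ∈ centW, (∀ l ∈ w, l < 4) ∧ app w 1 = 1 := by decide +kernel
  have h0 : Ru.ρ m 0 = 0 := by rw [T_eq] at hm; exact hm
  have h1 : Ru.ρ m 1 = 1 := by
    refine (hfix _ fun w hw => ?_).resolve_left fun e =>
      absurd ((Ru.ρ m).injective (e.trans h0.symm)) (by decide)
    obtain ⟨hl, e⟩ := cw w hw
    have hok : LettersOK w := fun l hlw => (hl l hlw).trans (by norm_num)
    have hfix1 : wperm w 1 = 1 := Fin.ext (by rw [wperm_apply hok]; exact e)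
    have := congrArg (fun σ : Equiv.Perm V => σ 1) (hq w hl)
    simp only [Equiv.Perm.mul_apply, hfix1] at this
    rw [← wperm_apply hok, ← this]
  have move : ∀ w : List ℕ, (∀ l ∈ w, l < 4) → Ru.ρ m (wperm w 1) = wperm w 1 := by
    intro w hl
    have := congrArg (fun σ : Equiv.Perm V => σ 1) (hq w hl)
    simpa [Equiv.Perm.mul_apply, h1] using this
  have hword : ([3, 2] : List ℕ).all (fun p => decide (∀ l ∈ base4W p, l < 4) && app (base4W p) 1 == p) = true := by
    decide +kernel
  have hp : ∀ p : V, p.val ∈ ([3, 2] : List ℕ) → Ru.ρ m p = p := by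
    intro p hp
    have h := List.all_eq_true.mp hword p.val hp
    simp only [Bool.and_eq_true, decide_eq_true_eq, beq_iff_eq] at h
    have e : wperm (base4W p.val) 1 = p :=
      Fin.ext (by rw [wperm_apply (fun l hl => (h.1 l hl).trans (by norm_num))]; exact h.2)
    rw [← e]
    exact move _ h.1
  refine Ru.card_P.2 ?_
  rw [map_one]
  exact eq_of_base ⟨m, rfl⟩ (one_mem _) h0 h1 (hp 3 (by decide)) (hp 2 (by decide))

theorem card_F : Nat.card F = 35942400 := by
  obtain ⟨h1, h2, -⟩ := tits_group_facts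
  have := (commutator F).index_mul_card
  rw [h1, h2] at this
  omega

/-- The point stabiliser is the Ree group. -/
theorem M0_equiv : Nonempty (M0 ≃* F) := by
  classical
  obtain ⟨hfin, hΓ⟩ := Γ_decomp
  have hF : Finite F := inferInstanceAs (Finite ↥(twistedF4 (ZMod 2) 1))
  have := Ru.card_P_le.1
  let p1 : Γ →* T := ((MonoidHom.fst Ru.P F).comp Γ.subtype).codRestrict T fun x => fst_mem_T x.2
  have s1 : Function.Surjective p1 := fun t => by
    obtain ⟨x, hx, e⟩ := T_le_fst t.2
    exact ⟨⟨x, hx⟩, Subtype.ext e⟩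
  have cT : Nat.card T = 35942400 := by rw [T_eq, card_pstab]
  have b1 : Function.Bijective p1 :=
    s1.bijective_of_nat_card_le (by rw [cT]; exact hΓ)
  let θ : T →* F := ((MonoidHom.snd Ru.P F).comp Γ.subtype).comp (MulEquiv.ofBijective p1 b1).symm.toMonoidHom
  have hθ : ∀ (x : Ru.P × F) (hx : x ∈ Γ), θ ⟨x.1, fst_mem_T hx⟩ = x.2 := by
    intro x hx
    have e : (MulEquiv.ofBijective p1 b1).symm ⟨x.1, fst_mem_T hx⟩ = ⟨x, hx⟩ := by
      rw [MulEquiv.symm_apply_eq]; rfl
    show ((MulEquiv.ofBijective p1 b1).symm ⟨x.1, fst_mem_T hx⟩ : Ru.P × F).2 = x.2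
    rw [e]
  have hψT : ∀ q, Ru.ψ q ∈ T := fun q => fst_mem_T (x := pairHom q) (le_sup_left (a := pairHom.range) ⟨q, rfl⟩)
  have hθψ : ∀ q, θ ⟨Ru.ψ q, hψT q⟩ = φ q := fun q =>
    hθ (pairHom q) (le_sup_left (a := pairHom.range) ⟨q, rfl⟩)
  have hinj : Function.Injective θ := by
    rw [injective_iff_map_eq_one]
    rintro ⟨m, hm⟩ hk
    obtain ⟨x, hx, rfl⟩ := T_le_fst hm
    have hx2 : x.2 = 1 := (hθ x hx).symm.trans hk
    refine Subtype.ext (cent_trivial hm fun q => ?_)
    -- conjugation by a kernel element keeps the pairs of the Tits group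
    have hN : x * pairHom q * x⁻¹ ∈ pairHom.range := by
      have hn : Γ ≤ Subgroup.normalizer (pairHom.range : Set (Ru.P × F)) := by
        refine sup_le Subgroup.le_normalizer (Subgroup.zpowers_le.mpr ?_)
        refine Subgroup.mem_normalizer_iff.mpr fun n => ⟨?_, fun hn => ?_⟩
        · rintro ⟨q, rfl⟩; exact conj_pair q
        · obtain ⟨q', hq'⟩ := hn
          obtain ⟨q'', hq''⟩ := conj_pair q'
          have h2 : u5 * u5 ∈ pairHom.range := sq_pair
          have e : n = (u5 * u5)⁻¹ * pairHom q'' * (u5 * u5) := by rw [hq'', hq']; group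
          rw [e]
          exact mul_mem (mul_mem (inv_mem h2) ⟨q'', rfl⟩) h2
      exact (Subgroup.mem_normalizer_iff.mp (hn hx) _).mp ⟨q, rfl⟩
    obtain ⟨q', hq'⟩ := hN
    have e2 : φ q' = φ q := by
      have := congrArg Prod.snd hq'
      simpa [pairHom, hx2] using this
    have e1 := congrArg Prod.fst hq'
    rw [φ_injective e2] at e1
    have : Ru.ψ q = x.1 * Ru.ψ q * x.1⁻¹ := e1
    show x.1 * Ru.ψ q = Ru.ψ q * x.1
    exact (eq_mul_inv_iff_mul_eq.mp this).symm
  have hbij : Function.Bijective θ :=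
    (Nat.bijective_iff_injective_and_card θ).mpr ⟨hinj, by rw [cT, card_F]⟩
  exact ⟨((MulEquiv.subgroupCongr T_eq.symm |>.symm.trans (Subgroup.equivMapOfInjective _ Ru.ρ Ru.card_P.2)).symm).trans
    (MulEquiv.ofBijective θ hbij)⟩

end CfsgLib.RuRankThree
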