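import Cfsg.Agent.RuRankThree.Rigid
import Cfsg.Agent.RuRankThree.Iso

/-!
# A rank three group on 4060 points is the Rudvalis group

In coordinates the group preserves the standard graph and has the standard point stabiliser, which is the whole
stabiliser among the symmetries of the graph.
-/

set_option autoImplicit false
set_option maxRecDepth 100000
set_option maxHeartbeats 1000000
set_option linter.style.haveILetI false

namespace CfsgLib.RuRankThree

open MulAction

variable {Ω : Type*} [Fintype Ω] [DecidableEq Ω] {G : Subgroup (Equiv.Perm Ω)} {a b c : Ω}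

theorem card_group (h : Hyp G a b c) : Nat.card G = 145926144000 := by
  obtain ⟨ψ⟩ := h.iso
  have ho : orbit G a = Set.univ := Set.eq_univ_of_forall fun y => by
    obtain ⟨g, hg, e⟩ := h.trans a y
    exact ⟨⟨g, hg⟩, e⟩
  rw [← (stabilizer G a).index_mul_card, index_stabilizer, ho, Set.ncard_univ, Nat.card_eq_fintype_card, h.card,
    ← Nat.card_congr ψ.toEquiv, card_M0]

/-- The recognition theorem. -/
theorem isRu (h : Hyp G a b c) : Cfsg.Spor.IsoRu G := by
  classical
  obtain ⟨P, hP⟩ := exists_act h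
  obtain ⟨π, π0, hAdj, -⟩ := exists_coords h hP
  let ψ : G →* Equiv.Perm V := (π.symm.permCongrHom.toMonoidHom).comp G.subtype
  have ψapp : ∀ (g : G) (v : V), ψ g v = π.symm ((g : Equiv.Perm Ω) (π v)) := fun g v => rfl
  have ψinj : Function.Injective ψ := π.symm.permCongrHom.injective.comp Subtype.val_injective
  have hle : ψ.range ≤ M := by
    rintro x ⟨g, rfl⟩
    have hauto : ∀ i j, AdjS (ψ g i) (ψ g j) ↔ AdjS i j := fun i j => by
      rw [← hAdj, ← hAdj, ψapp, ψapp, Equiv.apply_symm_apply, Equiv.apply_symm_apply, rel_map_iff g.2]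
    obtain ⟨m, hm, e⟩ := M_transitive 0 (ψ g 0)
    have hx : m⁻¹ * ψ g ∈ Aut0 := ⟨by rw [Equiv.Perm.mul_apply, ← e]; simp, fun i j => by
      rw [Equiv.Perm.mul_apply, Equiv.Perm.mul_apply, adj_M (inv_mem hm), hauto]⟩
    rw [Aut0_eq] at hx
    simpa using mul_mem hm (M0_le_M hx)
  have heq : ψ.range = M := Subgroup.eq_of_le_of_card_ge hle (by
    rw [← Nat.card_congr (MonoidHom.ofInjective ψinj).toEquiv, card_group h, card_M])
  obtain ⟨E⟩ := M_isRu
  exact ⟨(MonoidHom.ofInjective ψinj).trans ((MulEquiv.subgroupCongr heq).trans E)⟩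

end CfsgLib.RuRankThree
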