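import Cfsg.Agent.RuRankThree.Basic
import Cfsg.Agent.RuRankThree.DataPoint
import Cfsg.Agent.RuRankThree.DataGraph

/-!
# The standard graph and the suborbits

Two points are adjacent when an element of the group carries them to the first point and a point of the first
suborbit. The suborbits of a point stabiliser and of two-point stabilisers are tabulated.
-/

set_option autoImplicit false
set_option maxRecDepth 100000
set_option maxHeartbeats 1000000
set_option linter.style.haveILetI false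
set_option Elab.async false

namespace CfsgLib.RuRankThree

open CfsgLib.Coset MulAction

attribute [local irreducible] Ru.Pts.Tb bV cV maskB treeB treeC rowBits orbTree0 orbTree1 orbTree2 orbTree3

/-- The list of the first suborbit. -/
def listB : List ℕ := (List.range 1755).map (getA bV)

/-- The list of the second suborbit. -/
def listC : List ℕ := (List.range 2304).map (getA cV)

/-- Membership in the first suborbit. -/
def InB (v : V) : Prop := maskB.testBit v.val = true

instance (v : V) : Decidable (InB v) := inferInstanceAs (Decidable (_ = true))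

/-- Membership in the second suborbit. -/
def InC (v : V) : Prop := v ≠ 0 ∧ ¬ InB v

instance (v : V) : Decidable (InC v) := inferInstanceAs (Decidable (_ ∧ _))

theorem classify (v : V) : v = 0 ∨ InB v ∨ InC v := by
  by_cases h : v = 0
  · exact Or.inl h
  · by_cases h' : InB v
    exacts [Or.inr (Or.inl h'), Or.inr (Or.inr ⟨h, h'⟩)]

theorem zero_notB : ¬ InB 0 := by decide +kernel

theorem mask_step : (gensW.all fun w => decide (LettersH w) &&
    (List.range 4060).all fun v => maskB.testBit (app w.reverse v) == maskB.testBit v) = true := by decide +kernel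

theorem inB_M0 {m : Equiv.Perm V} (hm : m ∈ M0) {v : V} : InB (m v) ↔ InB v := by
  revert v
  refine M0_induction (p := fun m => ∀ {v}, InB (m v) ↔ InB v) ?_ (by simp) ?_ m hm
  · intro w hw v
    have h := List.all_eq_true.mp mask_step w hw
    simp only [Bool.and_eq_true, decide_eq_true_eq, List.all_eq_true, beq_iff_eq, List.mem_range] at h
    have e : Ru.ρ (ev Ru.Lp w) = wperm w.reverse := by rw [wperm_reverse, wperm, inv_inv]
    unfold InB
    rw [e, wperm_apply h.1.rev.1, h.2 v.val v.isLt]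
  · intro x y hx hy v
    exact (hx (v := y v)).trans hy

theorem inC_M0 {m : Equiv.Perm V} (hm : m ∈ M0) {v : V} : InC (m v) ↔ InC v := by
  refine and_congr ?_ (not_congr (inB_M0 hm))
  exact not_congr ⟨fun e => m.injective (e.trans (M0_zero hm).symm), fun e => by rw [e, M0_zero hm]⟩

theorem trees_ok : (treeOK app 13 1755 [[0], [1], [2], [3]] treeB = true ∧ treePts 1755 treeB = listB ∧
    maskOf listB = maskB) ∧ (treeOK app 1 2304 [[0], [1], [2], [3]] treeC = true ∧ treePts 2304 treeC = listC) ∧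
    ((List.range 4060).all fun v => v == 0 || maskB.testBit v || (maskOf listC).testBit v) = true ∧
    (listC.all fun v => decide (v < 4060 ∧ v ≠ 0) && !maskB.testBit v) = true ∧
    listB.all (fun v => decide (v < 4060)) = true := by decide +kernel

theorem inB_iff (v : V) : InB v ↔ v.val ∈ listB := by
  unfold InB
  rw [← trees_ok.1.2.2, mem_of_maskOf]

theorem inC_iff (v : V) : InC v ↔ v.val ∈ listC := by
  obtain ⟨-, -, hcov, hC, -⟩ := trees_ok
  simp only [List.all_eq_true, Bool.and_eq_true, decide_eq_true_eq, Bool.not_eq_true'] at hC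
  constructor
  · rintro ⟨h0, hB⟩
    have := List.all_eq_true.mp hcov v.val (List.mem_range.mpr v.isLt)
    simp only [Bool.or_eq_true, beq_iff_eq, mem_of_maskOf] at this
    rcases this with (h | h) | h
    exacts [absurd (Fin.ext h) h0, absurd h hB, h]
  · intro hv
    obtain ⟨⟨-, h0⟩, hB⟩ := hC _ hv
    exact ⟨fun e => h0 (congrArg Fin.val e), fun e => by rw [InB, hB] at e; exact Bool.false_ne_true e⟩

theorem lt_of_mem {l : List ℕ} (h : l = listB ∨ l = listC) {x : ℕ} (hx : x ∈ l) : x < 4060 := by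
  obtain ⟨-, -, -, hC, hB⟩ := trees_ok
  simp only [List.all_eq_true, Bool.and_eq_true, decide_eq_true_eq] at hB hC
  rcases h with rfl | rfl
  exacts [hB x hx, (hC x hx).1.1]

theorem ncard_vals {l : List ℕ} (hnd : l.Nodup) (hlt : ∀ x ∈ l, x < 4060) :
    {v : V | v.val ∈ l}.ncard = l.length := by
  classical
  rw [← List.toFinset_card_of_nodup hnd, ← Set.ncard_coe_finset, ← Set.ncard_image_of_injective _ Fin.val_injective]
  congr 1
  ext x
  simp only [Set.mem_image, Set.mem_ofPred_eq, List.coe_toFinset]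
  exact ⟨fun ⟨i, hi, e⟩ => e ▸ hi, fun hx => ⟨⟨x, hlt x hx⟩, hx, rfl⟩⟩

theorem nodup_B : listB.Nodup := trees_ok.1.2.1 ▸ tree_nodup trees_ok.1.1

theorem nodup_C : listC.Nodup := trees_ok.2.1.2 ▸ tree_nodup trees_ok.2.1.1

theorem card_InB : {v | InB v}.ncard = 1755 := by
  rw [show {v | InB v} = {v : V | v.val ∈ listB} from Set.ext inB_iff,
    ncard_vals nodup_B (fun x hx => lt_of_mem (Or.inl rfl) hx)]
  simp [listB]

theorem card_InC : {v | InC v}.ncard = 2304 := by
  rw [show {v | InC v} = {v : V | v.val ∈ listC} from Set.ext inC_iff,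
    ncard_vals nodup_C (fun x hx => lt_of_mem (Or.inr rfl) hx)]
  simp [listC]

/-- Moving along a tree by the stabiliser of some points. -/
theorem tree_move {gens : List (List ℕ)} {root n : ℕ} {L : List ℕ} (h : treeOK app root n gens L = true)
    (hroot : root < 4060) (Fix : V → Prop)
    (hg : ∀ w ∈ gens, LettersH w ∧ ∀ f, Fix f → app w f.val = f.val) :
    ∀ x ∈ treePts n L, ∃ m ∈ M0, (∀ f, Fix f → m f = f) ∧ (m ⟨root, hroot⟩).val = x := by
  refine tree_spec (R := fun x => ∃ m ∈ M0, (∀ f, Fix f → m f = f) ∧ (m ⟨root, hroot⟩).val = x) h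
    (fun i => follow_nil _ i) ⟨1, one_mem _, fun f _ => rfl, rfl⟩ fun w hw x hx => ?_
  obtain ⟨m, hm, hf, rfl⟩ := hx
  obtain ⟨hl, hfix⟩ := hg w hw
  refine ⟨wperm w * m, mul_mem (wperm_mem hl) hm, fun f hff => ?_, ?_⟩
  · rw [Equiv.Perm.mul_apply, hf f hff]
    exact Fin.ext (by rw [wperm_apply hl.1, hfix f hff])
  · rw [Equiv.Perm.mul_apply, wperm_apply hl.1]

theorem tits_letters : ∀ w ∈ ([[0], [1], [2], [3]] : List (List ℕ)), LettersH w := by decide +kernel

theorem trans_B {v : V} (hv : InB v) : ∃ m ∈ M0, m 13 = v := by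
  obtain ⟨m, hm, -, e⟩ := tree_move trees_ok.1.1 (root := 13) (by norm_num) (fun _ => False)
    (fun w hw => ⟨tits_letters w hw, fun f hf => hf.elim⟩) v.val (by rw [trees_ok.1.2.1]; exact (inB_iff v).mp hv)
  exact ⟨m, hm, Fin.ext e⟩

theorem trans_C {v : V} (hv : InC v) : ∃ m ∈ M0, m 1 = v := by
  obtain ⟨m, hm, -, e⟩ := tree_move trees_ok.2.1.1 (root := 1) (by norm_num) (fun _ => False)
    (fun w hw => ⟨tits_letters w hw, fun f hf => hf.elim⟩) v.val (by rw [trees_ok.2.1.2]; exact (inC_iff v).mp hv)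
  exact ⟨m, hm, Fin.ext e⟩

theorem inB13 : InB 13 ∧ InC 1 := by decide +kernel

/-! ### Adjacency -/

/-- Adjacency. -/
def AdjS (i j : V) : Prop := ∃ m ∈ M, m 0 = i ∧ InB (m⁻¹ j)

theorem adj_iff {m : Equiv.Perm V} (hm : m ∈ M) {i j : V} (h : m 0 = i) : AdjS i j ↔ InB (m⁻¹ j) := by
  refine ⟨?_, fun hB => ⟨m, hm, h, hB⟩⟩
  rintro ⟨n, hn, hn0, hB⟩
  have hk : m⁻¹ * n ∈ M0 := mem_M0 (mul_mem (inv_mem hm) hn) (by
    rw [Equiv.Perm.mul_apply, hn0, ← h]; simp)
  have := (inB_M0 hk).mpr hB
  simpa using this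

theorem adj_zero (j : V) : AdjS 0 j ↔ InB j := by
  rw [adj_iff (one_mem M) (i := 0) (by simp)]
  simp

theorem adj_M {m : Equiv.Perm V} (hm : m ∈ M) (i j : V) : AdjS (m i) (m j) ↔ AdjS i j := by
  obtain ⟨n, hn, e⟩ := M_transitive 0 i
  rw [adj_iff hn e, adj_iff (mul_mem hm hn) (by rw [Equiv.Perm.mul_apply, e])]
  simp [mul_inv_rev]

/-- A word from the first point to the point of the first suborbit. -/
noncomputable def word13 : List ℕ := rowWords.getD (rowPts.idxOf 13) []

theorem word13_ok : LettersOK word13 ∧ app word13 0 = 13 ∧ maskB.testBit (app word13.reverse 0) = true := by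
  decide +kernel

theorem adj_symm {i j : V} (h : AdjS i j) : AdjS j i := by
  obtain ⟨m, hm, rfl, hB⟩ := h
  obtain ⟨n, hn, e⟩ := trans_B hB
  have hw := wperm_mem_M word13
  have e13 : wperm word13 0 = 13 := Fin.ext (by rw [wperm_apply word13_ok.1]; exact word13_ok.2.1)
  have hj : j = (m * n) 13 := by rw [Equiv.Perm.mul_apply, e]; simp
  have hi : m 0 = (m * n) 0 := by rw [Equiv.Perm.mul_apply, M0_zero hn]
  rw [hj, hi, adj_M (mul_mem hm (M0_le_M hn)), adj_iff hw e13, ← wperm_reverse]
  unfold InB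
  rw [wperm_apply (fun l hl => word13_ok.1 l (List.mem_reverse.mp hl))]
  exact word13_ok.2.2

theorem adj_comm (i j : V) : AdjS i j ↔ AdjS j i := ⟨adj_symm, adj_symm⟩

theorem not_adj_self (i : V) : ¬ AdjS i i := by
  obtain ⟨m, hm, rfl⟩ := M_transitive 0 i
  rw [adj_M hm, adj_zero]
  exact zero_notB

/-- A stored row. -/
def rowOf (p : ℕ) : ℕ := rowBits.getD (rowPts.idxOf p) 0

theorem rows_ok : ((List.range rowPts.length).all fun k =>
    decide (LettersOK (rowWords.getD k [])) && app (rowWords.getD k []) 0 == rowPts.getD k 0 &&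
      maskOf (listB.map (app (rowWords.getD k []))) == rowBits.getD k 0) = true := by decide +kernel

theorem row_spec {p : V} (hp : p.val ∈ rowPts) (j : V) : AdjS p j ↔ (rowOf p.val).testBit j.val = true := by
  have hk : rowPts.idxOf p.val < rowPts.length := List.idxOf_lt_length_iff.mpr hp
  have h := List.all_eq_true.mp rows_ok _ (List.mem_range.mpr hk)
  simp only [Bool.and_eq_true, decide_eq_true_eq, beq_iff_eq] at h
  obtain ⟨⟨hl, h0⟩, hmask⟩ := h
  set w := rowWords.getD (rowPts.idxOf p.val) []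
  have e0 : wperm w 0 = p := Fin.ext (by
    rw [wperm_apply hl, show (0 : V).val = 0 from rfl, h0, List.getD_eq_getElem _ _ hk, List.getElem_idxOf hk])
  rw [adj_iff (wperm_mem_M w) e0, rowOf, ← hmask, mem_of_maskOf, List.mem_map, inB_iff]
  constructor
  · intro h
    exact ⟨_, h, by rw [← wperm_apply hl]; simp⟩
  · rintro ⟨x, hx, e⟩
    have : (wperm w)⁻¹ j = ⟨x, lt_of_mem (Or.inl rfl) hx⟩ :=
      Equiv.Perm.inv_eq_iff_eq.mpr (Fin.ext (by rw [wperm_apply hl, e]))
    rw [this]; exact hx

/-! ### The four relations on the first suborbit -/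

/-- The number of common neighbours inside the first suborbit. -/
noncomputable def cc (v w : V) : ℕ := {u : V | InB u ∧ AdjS v u ∧ AdjS w u}.ncard

theorem cc_M0 {m : Equiv.Perm V} (hm : m ∈ M0) (v w : V) : cc (m v) (m w) = cc v w := by
  rw [cc, cc, ← Set.ncard_image_of_injective {u : V | InB u ∧ AdjS v u ∧ AdjS w u} m.injective]
  congr 1
  ext u
  obtain ⟨u, rfl⟩ := m.surjective u
  rw [m.injective.mem_set_image]
  simp only [Set.mem_ofPred_eq, inB_M0 hm, adj_M (M0_le_M hm)]

theorem cc_symm (v w : V) : cc v w = cc w v := by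
  simp only [cc]
  congr 1
  ext u
  simp [and_comm]

/-- The numbers of common neighbours. -/
def ccVal : ℕ → ℕ
  | 0 => 217
  | 1 => 345
  | _ => 281

/-- The relations, the collinear pairs first. -/
def Orb (k : ℕ) (v w : V) : Prop :=
  InB v ∧ InB w ∧ if k < 3 then AdjS v w ∧ cc v w = ccVal k else v ≠ w ∧ ¬ AdjS v w

theorem orb_M0 {m : Equiv.Perm V} (hm : m ∈ M0) (k : ℕ) (v w : V) : Orb k (m v) (m w) ↔ Orb k v w := by
  unfold Orb
  split_ifs <;> simp [inB_M0 hm, adj_M (M0_le_M hm), cc_M0 hm, m.injective.ne_iff]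

theorem orb_symm {k : ℕ} {v w : V} (h : Orb k v w) : Orb k w v := by
  obtain ⟨h1, h2, h3⟩ := h
  refine ⟨h2, h1, ?_⟩
  split_ifs with hk
  · rw [if_pos hk] at h3; exact ⟨adj_symm h3.1, by rw [cc_symm]; exact h3.2⟩
  · rw [if_neg hk] at h3; exact ⟨h3.1.symm, fun e => h3.2 (adj_symm e)⟩

/-- The tree of a relation at the base point. -/
def orbTree : ℕ → List ℕ
  | 0 => orbTree0
  | 1 => orbTree1
  | 2 => orbTree2
  | _ => orbTree3

/-- The sizes. -/
def orbSize : ℕ → ℕ
  | 0 => 10
  | 1 => 80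
  | 2 => 640
  | _ => 1024

/-- The points related to the base point. -/
def orbL (k : ℕ) : List ℕ := treePts (orbSize k) (orbTree k)

/-- The root of a relation. -/
def rootN (k : ℕ) : ℕ := orbRoots.getD k 0

theorem stabB_ok : stabB.all (fun w => decide (LettersH w) && app w 13 == 13) = true := by decide +kernel

theorem orbTree_ok : ((List.range 4).all fun k => treeOK app (rootN k) (orbSize k) stabB (orbTree k) &&
    decide (rootN k < 4060) && rowPts.contains (rootN k) &&
    (orbL k).all (fun x => maskB.testBit x && (x != 13)) &&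
    ((rowOf 13).testBit (rootN k) == decide (k < 3)) &&
    (decide (3 ≤ k) ||
      (listB.filter fun u => (rowOf 13 &&& rowOf (rootN k)).testBit u).length == ccVal k)) = true ∧
    (rowPts.contains 13) = true ∧
    (listB.all fun v => v == 13 || (List.range 4).any fun k => (maskOf (orbL k)).testBit v) = true := by
  decide +kernel

theorem orb_base {k : ℕ} (hk : k < 4) {x : ℕ} (hx : x ∈ orbL k) :
    ∃ hlt : x < 4060, Orb k 13 ⟨x, hlt⟩ ∧ ∃ m ∈ M0, m 13 = 13 ∧ (m (Fin.ofNat 4060 (rootN k))).val = x := by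
  obtain ⟨h, h13, -⟩ := orbTree_ok
  have h := List.all_eq_true.mp h k (List.mem_range.mpr hk)
  simp only [Bool.and_eq_true, decide_eq_true_eq, List.contains_iff_mem, List.all_eq_true, bne_iff_ne, beq_iff_eq,
    Bool.or_eq_true] at h
  rw [List.contains_iff_mem] at h13
  obtain ⟨⟨⟨⟨⟨ht, hr⟩, hrow⟩, hall⟩, hadj⟩, hcc⟩ := h
  obtain ⟨m, hm, hfix, e⟩ := tree_move ht hr (fun f => f = 13) (fun w hw => by
    have := List.all_eq_true.mp stabB_ok w hw
    simp only [Bool.and_eq_true, decide_eq_true_eq, beq_iff_eq] at this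
    exact ⟨this.1, fun f hf => by subst hf; exact this.2⟩) x hx
  have hlt : x < 4060 := e ▸ (m _).isLt
  have hr' : Fin.ofNat 4060 (rootN k) = (⟨rootN k, hr⟩ : V) := Fin.ext (Nat.mod_eq_of_lt hr)
  refine ⟨hlt, ?_, m, hm, hfix 13 rfl, by rw [hr']; exact e⟩
  have eroot : m ⟨rootN k, hr⟩ = ⟨x, hlt⟩ := Fin.ext e
  rw [← eroot, ← hfix 13 rfl, orb_M0 hm]
  have hrB : InB ⟨rootN k, hr⟩ := by
    rw [← inB_M0 hm, eroot]; exact (hall x hx).1
  refine ⟨inB13.1, hrB, ?_⟩
  have hA : AdjS 13 ⟨rootN k, hr⟩ ↔ k < 3 := by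
    rw [row_spec (p := (13 : V)) h13, show (13 : V).val = 13 from rfl, hadj, decide_eq_true_eq]
  split_ifs with hk3
  · refine ⟨hA.mpr hk3, ?_⟩
    rw [cc, ← hcc.resolve_left (by omega)]
    rw [← ncard_vals (nodup_B.filter _) (fun y hy => lt_of_mem (Or.inl rfl) (List.mem_filter.mp hy).1)]
    congr 1
    ext u
    simp only [Set.mem_ofPred_eq, List.mem_filter, Nat.testBit_and, Bool.and_eq_true, inB_iff,
      row_spec (p := (13 : V)) h13, row_spec (p := (⟨rootN k, hr⟩ : V)) hrow]
    rfl
  · refine ⟨fun e' => ?_, fun hh => hk3 (hA.mp hh)⟩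
    rw [← eroot] at *
    exact (hall x hx).2 (by rw [← e, ← e', hfix 13 rfl]; rfl)

theorem orb_unique {j k : ℕ} (hj : j < 4) (hk : k < 4) {v w : V} (h : Orb j v w) (h' : Orb k v w) : j = k := by
  obtain ⟨-, -, h⟩ := h
  obtain ⟨-, -, h'⟩ := h'
  interval_cases j <;> interval_cases k <;> simp_all [ccVal]

theorem orb_cover13 {w : V} (hw : InB w) (hne : w ≠ 13) : ∃ k < 4, w.val ∈ orbL k := by
  have h := List.all_eq_true.mp orbTree_ok.2.2 w.val ((inB_iff w).mp hw)
  simp only [Bool.or_eq_true, beq_iff_eq, List.any_eq_true, List.mem_range, mem_of_maskOf] at h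
  exact h.resolve_left fun e => hne (Fin.ext e)

theorem orb13_iff {k : ℕ} (hk : k < 4) (w : V) : Orb k 13 w ↔ w.val ∈ orbL k := by
  constructor
  · intro h
    have hne : w ≠ 13 := by
      rintro rfl
      obtain ⟨-, -, h3⟩ := h
      split_ifs at h3
      exacts [not_adj_self _ h3.1, h3.1 rfl]
    obtain ⟨j, hj, hm⟩ := orb_cover13 h.2.1 hne
    obtain ⟨_, h', -⟩ := orb_base hj hm
    exact orb_unique hj hk h' h ▸ hm
  · intro h
    obtain ⟨_, h', -⟩ := orb_base hk h
    exact h'

theorem orb_cover {v w : V} (hv : InB v) (hw : InB w) (hne : w ≠ v) : ∃ k < 4, Orb k v w := by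
  obtain ⟨m, hm, rfl⟩ := trans_B hv
  obtain ⟨w, rfl⟩ := m.surjective w
  obtain ⟨k, hk, h⟩ := orb_cover13 ((inB_M0 hm).mp hw) (fun e => hne (by rw [e]))
  exact ⟨k, hk, (orb_M0 hm k _ _).mpr ((orb13_iff hk w).mpr h)⟩

theorem orb_move {k : ℕ} (hk : k < 4) {v w : V} (h : Orb k v w) :
    ∃ m ∈ M0, m 13 = v ∧ m (Fin.ofNat 4060 (rootN k)) = w := by
  obtain ⟨g, hg, rfl⟩ := trans_B h.1
  obtain ⟨w, rfl⟩ := g.surjective w
  rw [orb_M0 hg] at h
  obtain ⟨_, -, m, hm, h13, e⟩ := orb_base hk ((orb13_iff hk w).mp h)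
  exact ⟨g * m, mul_mem hg hm, by simp [h13], by rw [Equiv.Perm.mul_apply, Fin.ext e]⟩

theorem card_orb {k : ℕ} (hk : k < 4) {v : V} (hv : InB v) : {w | Orb k v w}.ncard = orbSize k := by
  obtain ⟨m, hm, rfl⟩ := trans_B hv
  rw [show {w | Orb k (m 13) w} = m '' {w | Orb k 13 w} by
    ext w; obtain ⟨w, rfl⟩ := m.surjective w; simp [orb_M0 hm], Set.ncard_image_of_injective _ m.injective,
    show {w | Orb k 13 w} = {w : V | w.val ∈ orbL k} from Set.ext (orb13_iff hk)]
  have h := List.all_eq_true.mp orbTree_ok.1 k (List.mem_range.mpr hk)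
  simp only [Bool.and_eq_true] at h
  rw [ncard_vals (l := orbL k) (tree_nodup h.1.1.1.1.1) (fun x hx => (orb_base hk hx).1)]
  simp [orbL, treePts]

theorem adj_iff_orb {v w : V} (hv : InB v) (hw : InB w) : AdjS v w ↔ Orb 0 v w ∨ Orb 1 v w ∨ Orb 2 v w := by
  constructor
  · intro h
    obtain ⟨k, hk, ho⟩ := orb_cover hv hw (fun e => not_adj_self v (e ▸ h))
    interval_cases k
    · exact Or.inl ho
    · exact Or.inr (Or.inl ho)
    · exact Or.inr (Or.inr ho)
    · exact absurd h ho.2.2.2
  · rintro (h | h | h) <;> exact h.2.2.1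

/-! ### The suborbits on the second suborbit -/

/-- The tree of a suborbit. -/
def cTree : ℕ → List ℕ
  | 0 => cTree0
  | 1 => cTree1
  | 2 => cTree2
  | 3 => cTree3
  | _ => cTree4

/-- Its size. -/
def cSize : ℕ → ℕ
  | 0 => 78
  | 1 => 300
  | 2 => 300
  | 3 => 650
  | _ => 975

/-- Its points. -/
def cL (k : ℕ) : List ℕ := treePts (cSize k) (cTree k)

theorem stabC_ok : stabC.all (fun w => decide (LettersH w) && app w 1 == 1) = true := by decide +kernel

theorem cTree_ok : ((List.range 5).all fun k => treeOK app (cRoots.getD k 0) (cSize k) stabC (cTree k) &&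
    decide (cRoots.getD k 0 < 4060) && (cL k).all (fun x => (maskOf listC).testBit x && ((rowOf 1).testBit x == decide (k = 4)))) = true ∧
    rowPts.contains 1 = true ∧
    (listC.all fun v => v == 1 || (List.range 5).any fun k => (maskOf (cL k)).testBit v) = true ∧
    ((List.range 5).all fun j => (List.range j).all fun k => maskOf (cL j) &&& maskOf (cL k) == 0) = true := by
  decide +kernel

/-- A part of the second suborbit invariant under the stabiliser of its first point. -/
theorem invariant_part {S : Set V} (hS : ∀ v ∈ S, InC v ∧ v ≠ 1)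
    (hinv : ∀ m ∈ M0, m 1 = 1 → ∀ v, v ∈ S → m v ∈ S) (hcard : S.ncard = 975) : S = {v | InC v ∧ AdjS 1 v} := by
  classical
  obtain ⟨htree, h1row, hcov, hdis⟩ := cTree_ok
  rw [List.contains_iff_mem] at h1row
  have info : ∀ k < 5, treeOK app (cRoots.getD k 0) (cSize k) stabC (cTree k) = true ∧
      ∃ hr : cRoots.getD k 0 < 4060, ∀ x ∈ cL k, x ∈ listC ∧ ((rowOf 1).testBit x = true ↔ k = 4) := by
    intro k hk
    have h := List.all_eq_true.mp htree k (List.mem_range.mpr hk)
    simp only [Bool.and_eq_true, decide_eq_true_eq, List.all_eq_true, mem_of_maskOf, beq_iff_eq] at h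
    exact ⟨h.1.1, h.1.2, fun x hx => ⟨(h.2 x hx).1, by rw [(h.2 x hx).2, decide_eq_true_eq]⟩⟩
  let O : ℕ → Set V := fun k => {v | v.val ∈ cL k}
  have hO : ∀ k < 5, (O k).ncard = cSize k := fun k hk => by
    obtain ⟨ht, -, hx⟩ := info k hk
    rw [ncard_vals (l := cL k) (tree_nodup ht) (fun x h => lt_of_mem (Or.inr rfl) (hx x h).1)]
    simp [cL, treePts]
  have dich : ∀ k < 5, S ∩ O k = ∅ ∨ S ∩ O k = O k := by
    intro k hk
    rcases Set.eq_empty_or_nonempty (S ∩ O k) with e | ⟨v, hvS, hvO⟩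
    · exact Or.inl e
    · refine Or.inr (Set.inter_eq_right.mpr fun w hw => ?_)
      obtain ⟨ht, hr, -⟩ := info k hk
      have hg : ∀ w ∈ stabC, LettersH w ∧ ∀ f : V, f = 1 → app w f.val = f.val := fun w hw => by
        have := List.all_eq_true.mp stabC_ok w hw
        simp only [Bool.and_eq_true, decide_eq_true_eq, beq_iff_eq] at this
        exact ⟨this.1, fun f hf => by subst hf; exact this.2⟩
      obtain ⟨m, hm, hm1, em⟩ := tree_move ht hr (fun f => f = 1) hg v.val hvO
      obtain ⟨n, hn, hn1, en⟩ := tree_move ht hr (fun f => f = 1) hg w.val hw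
      have := hinv (n * m⁻¹) (mul_mem hn (inv_mem hm)) (by
        rw [Equiv.Perm.mul_apply, Equiv.Perm.inv_eq_iff_eq.mpr (hm1 1 rfl).symm, hn1 1 rfl]) v hvS
      rwa [Equiv.Perm.mul_apply, show m⁻¹ v = ⟨_, hr⟩ from Equiv.Perm.inv_eq_iff_eq.mpr (Fin.ext em.symm),
        Fin.ext en] at this
  have hsub : S ⊆ ⋃ k ∈ Finset.range 5, O k := by
    intro v hv
    obtain ⟨hC, h1⟩ := hS v hv
    have h := List.all_eq_true.mp hcov v.val ((inC_iff v).mp hC)
    simp only [Bool.or_eq_true, beq_iff_eq, List.any_eq_true, List.mem_range, mem_of_maskOf] at h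
    obtain ⟨k, hk, hm⟩ := h.resolve_left fun e => h1 (Fin.ext e)
    simp only [Set.mem_iUnion, Finset.mem_range]
    exact ⟨k, hk, hm⟩
  have le : S.ncard ≤ ∑ k ∈ Finset.range 5, (S ∩ O k).ncard := by
    refine le_trans (Set.ncard_le_ncard ?_) (Finset.set_ncard_biUnion_le (Finset.range 5) fun k => S ∩ O k)
    intro v hv
    have := hsub hv
    simp only [Set.mem_iUnion] at this ⊢
    obtain ⟨k, hk, h⟩ := this
    exact ⟨k, hk, hv, h⟩
  have dis : ∀ {k j : ℕ}, k < j → j < 5 → Disjoint (O k) (O j) := by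
    intro k j hkj hj
    refine Set.disjoint_left.mpr fun v hvk hvj => ?_
    have h := List.all_eq_true.mp (List.all_eq_true.mp hdis j (List.mem_range.mpr hj)) k (List.mem_range.mpr hkj)
    rw [beq_iff_eq] at h
    have := congrArg (fun m => Nat.testBit m v.val) h
    simp only [Nat.testBit_and, Nat.zero_testBit, mem_of_maskOf.mpr (show v.val ∈ cL j from hvj),
      mem_of_maskOf.mpr (show v.val ∈ cL k from hvk)] at this
    exact Bool.noConfusion this
  have hlast : S ∩ O 4 = O 4 := by
    by_contra hne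
    have h4 := (dich 4 (by norm_num)).resolve_right hne
    simp only [Finset.sum_range_succ, Finset.sum_range_zero, h4, Set.ncard_empty] at le
    have c0 := hO 0 (by norm_num)
    have c1 := hO 1 (by norm_num)
    have c2 := hO 2 (by norm_num)
    have c3 := hO 3 (by norm_num)
    simp only [cSize] at c0 c1 c2 c3
    have low : ∀ k < 4, ∀ v, v ∈ O k → v ∈ S → O k ⊆ S := fun k hk v hv hvS =>
      Set.inter_eq_right.mp ((dich k (by omega)).resolve_left fun e =>
        (Set.eq_empty_iff_forall_notMem.mp e) v ⟨hvS, hv⟩)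
    rcases dich 0 (by norm_num) with e0 | e0 <;> rcases dich 1 (by norm_num) with e1 | e1 <;>
      rcases dich 2 (by norm_num) with e2 | e2 <;> rcases dich 3 (by norm_num) with e3 | e3 <;>
      rw [e0, e1, e2, e3] at le <;> simp only [Set.ncard_empty, c0, c1, c2, c3] at le <;> first | omega | skip
    all_goals
      have ge : (((S ∩ O 0) ∪ (S ∩ O 1)) ∪ (S ∩ O 2) ∪ (S ∩ O 3)).ncard ≤ S.ncard :=
        Set.ncard_le_ncard (by intro v hv; simp only [Set.mem_union, Set.mem_inter_iff] at hv; tauto)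
      rw [Set.ncard_union_eq, Set.ncard_union_eq, Set.ncard_union_eq] at ge
      · rw [e0, e1, e2, e3] at ge
        simp only [Set.ncard_empty, c0, c1, c2, c3] at ge
        omega
      all_goals
        try simp only [Set.disjoint_union_left]
        repeat' apply And.intro
        all_goals exact (dis (by norm_num) (by norm_num)).mono Set.inter_subset_right Set.inter_subset_right
  have h4sub : O 4 ⊆ S := Set.inter_eq_right.mp hlast
  have heq : O 4 = S := Set.eq_of_subset_of_ncard_le h4sub (by rw [hcard, hO 4 (by norm_num)]; rfl)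
  ext v
  rw [← heq]
  constructor
  · intro hv
    obtain ⟨-, -, hx⟩ := info 4 (by norm_num)
    exact ⟨(inC_iff v).mpr (hx _ hv).1, (row_spec (p := (1 : V)) h1row v).mpr ((hx _ hv).2.mpr rfl)⟩
  · rintro ⟨hC, hA⟩
    have h := List.all_eq_true.mp hcov v.val ((inC_iff v).mp hC)
    simp only [Bool.or_eq_true, beq_iff_eq, List.any_eq_true, List.mem_range, mem_of_maskOf] at h
    obtain ⟨k, hk, hm⟩ := h.resolve_left fun e => not_adj_self v (by
      rw [show v = 1 from Fin.ext e] at hA ⊢; exact hA)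
    obtain ⟨-, -, hx⟩ := info k hk
    exact ((hx _ hm).2.mp ((row_spec (p := (1 : V)) h1row v).mp hA)) ▸ hm

end CfsgLib.RuRankThree
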