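import Cfsg.Agent.RuRankThree.Coords
import Cfsg.Agent.RuRankThree.DataRigid

/-!
# The symmetries of the standard graph

A symmetry fixing the first point keeps the four relations on the first suborbit; six points of it determine the
symmetry and their possible images are few, so the point stabiliser in the group of all symmetries is the standard
one.
-/

set_option autoImplicit false
set_option maxRecDepth 100000
set_option maxHeartbeats 1000000
set_option linter.style.haveILetI false
set_option Elab.async false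

namespace CfsgLib.RuRankThree

open CfsgLib.Coset MulAction

attribute [local irreducible] Ru.Pts.Tb bV cV maskB treeB treeC rowBits orbTree0 orbTree1 orbTree2 orbTree3 orbBits

/-- The symmetries fixing the first point. -/
def Aut0 : Subgroup (Equiv.Perm V) where
  carrier := {x | x 0 = 0 ∧ ∀ i j, AdjS (x i) (x j) ↔ AdjS i j}
  one_mem' := ⟨rfl, fun _ _ => Iff.rfl⟩
  mul_mem' := fun {x y} hx hy => ⟨by simp [hy.1, hx.1], fun i j => by simp [hx.2, hy.2]⟩
  inv_mem' := fun {x} hx => ⟨Equiv.Perm.inv_eq_iff_eq.mpr hx.1.symm,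
    fun i j => by rw [← hx.2]; simp⟩

theorem inB_Aut0 {x : Equiv.Perm V} (hx : x ∈ Aut0) (v : V) : InB (x v) ↔ InB v := by
  conv_lhs => rw [← adj_zero, ← hx.1]
  rw [hx.2, adj_zero]

theorem cc_Aut0 {x : Equiv.Perm V} (hx : x ∈ Aut0) (v w : V) : cc (x v) (x w) = cc v w := by
  rw [cc, cc, ← Set.ncard_image_of_injective {u : V | InB u ∧ AdjS v u ∧ AdjS w u} x.injective]
  congr 1
  ext u
  obtain ⟨u, rfl⟩ := x.surjective u
  rw [x.injective.mem_set_image]
  simp only [Set.mem_ofPred_eq, inB_Aut0 hx, hx.2]

theorem orb_Aut0 {x : Equiv.Perm V} (hx : x ∈ Aut0) (k : ℕ) (v w : V) : Orb k (x v) (x w) ↔ Orb k v w := by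
  unfold Orb
  split_ifs <;> simp [inB_Aut0 hx, hx.2, cc_Aut0 hx, x.injective.ne_iff]

/-- A stored relation row. -/
def orbRow (k p : ℕ) : ℕ := orbBits.getD (3 * orbPts.idxOf p + k) 0

theorem orbRows_ok : ((List.range orbPts.length).all fun i =>
    decide (LettersH (orbPtWords.getD i [])) && app (orbPtWords.getD i []) 13 == orbPts.getD i 0 &&
      (List.range 3).all fun k =>
        maskOf ((orbL k).map (app (orbPtWords.getD i []))) == orbBits.getD (3 * i + k) 0) = true := by
  decide +kernel

theorem orbRow_spec {p : V} (hp : p.val ∈ orbPts) {k : ℕ} (hk : k < 3) (j : V) :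
    Orb k p j ↔ (orbRow k p.val).testBit j.val = true := by
  have hi : orbPts.idxOf p.val < orbPts.length := List.idxOf_lt_length_iff.mpr hp
  have h := List.all_eq_true.mp orbRows_ok _ (List.mem_range.mpr hi)
  simp only [Bool.and_eq_true, decide_eq_true_eq, beq_iff_eq, List.all_eq_true, List.mem_range] at h
  obtain ⟨⟨hl, h0⟩, hmask⟩ := h
  set w := orbPtWords.getD (orbPts.idxOf p.val) []
  have e0 : wperm w 13 = p := Fin.ext (by
    rw [wperm_apply hl.1, show (13 : V).val = 13 from rfl, h0, List.getD_eq_getElem _ _ hi, List.getElem_idxOf hi])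
  obtain ⟨j, rfl⟩ := (wperm w).surjective j
  rw [orbRow, ← hmask k hk, ← e0, orb_M0 (wperm_mem hl), orb13_iff (by omega), mem_of_maskOf, List.mem_map,
    wperm_apply hl.1]
  refine ⟨fun hx => ⟨_, hx, rfl⟩, fun ⟨y, hy, e⟩ => ?_⟩
  obtain ⟨hy', -⟩ := orb_base (show k < 4 by omega) hy
  have : (⟨y, hy'⟩ : V) = j := (wperm w).injective
    (Fin.ext (by rw [wperm_apply hl.1, wperm_apply hl.1]; exact e))
  rw [← this]; exact hy

/-- A pair of a point and a relation. -/
def tests (F : List ℕ) : List (ℕ × ℕ) := F.flatMap fun f => (List.range 3).map fun k => (f, k)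

/-- The points of the first suborbit outside a list with the pattern of a point on some rows. -/
def patMask (Fix F : List ℕ) (v : ℕ) : ℕ :=
  (tests F).foldl (fun m t => if (orbRow t.2 t.1).testBit v then m &&& orbRow t.2 t.1
    else m &&& ((m &&& orbRow t.2 t.1) ^^^ m)) (maskB ^^^ maskOf Fix)

theorem testBit_pat (l : List (ℕ × ℕ)) (v w : ℕ) : ∀ m : ℕ,
    (l.foldl (fun m t => if (orbRow t.2 t.1).testBit v then m &&& orbRow t.2 t.1
      else m &&& ((m &&& orbRow t.2 t.1) ^^^ m)) m).testBit w =
      (m.testBit w && l.all fun t => (orbRow t.2 t.1).testBit w == (orbRow t.2 t.1).testBit v) := by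
  induction l with
  | nil => simp
  | cons t l ih =>
    intro m
    rw [List.foldl_cons, ih, List.all_cons, ← Bool.and_assoc]
    congr 1
    cases hv : (orbRow t.2 t.1).testBit v
    · simp only [Bool.false_eq_true, if_false, Nat.testBit_and, Nat.testBit_xor]
      cases (orbRow t.2 t.1).testBit w <;> cases m.testBit w <;> rfl
    · simp only [if_true, Nat.testBit_and]
      cases (orbRow t.2 t.1).testBit w <;> simp

/-- A list inside the first suborbit. -/
def insideB (Fix : List ℕ) : Bool := Fix.all fun f => decide (f < 4060) && maskB.testBit f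

/-- A symmetry keeps the pattern on fixed points. -/
theorem mem_patMask {x : Equiv.Perm V} (hx : x ∈ Aut0) {Fix F : List ℕ} (hF : ∀ f ∈ F, f ∈ Fix)
    (hrows : ∀ f ∈ F, f ∈ orbPts) (hlt : ∀ f ∈ Fix, f < 4060)
    (hfix : ∀ v : V, v.val ∈ Fix → x v = v) {b : V} (hbB : InB b) (hb : b.val ∉ Fix) :
    (patMask Fix F b.val).testBit (x b).val = true := by
  rw [patMask, testBit_pat, Bool.and_eq_true, List.all_eq_true, Nat.testBit_xor]
  refine ⟨?_, fun t ht => ?_⟩
  · have : (maskOf Fix).testBit (x b).val = false := by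
      rw [Bool.eq_false_iff]
      intro hh
      rw [mem_of_maskOf] at hh
      have e := x.injective (hfix _ hh)
      exact hb (e ▸ hh)
    rw [this, show maskB.testBit (x b).val = true from (inB_Aut0 hx b).mpr hbB]; rfl
  · simp only [tests, List.mem_flatMap, List.mem_map, List.mem_range] at ht
    obtain ⟨f, hf, k, hk, rfl⟩ := ht
    rw [beq_iff_eq, Bool.eq_iff_iff]
    have hp : (⟨f, hlt f (hF f hf)⟩ : V).val ∈ orbPts := hrows f hf
    rw [← orbRow_spec hp hk, ← orbRow_spec hp hk]
    conv_lhs => rw [← hfix ⟨f, hlt f (hF f hf)⟩ (hF f hf)]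
    exact orb_Aut0 hx k _ b

/-- The checks of the candidates. -/
def candOK : Bool :=
  (List.range 5).all fun i =>
    let Fix := basePts.take (i + 1)
    (Fix.all fun f => orbPts.contains f) && !Fix.contains (basePts.getD (i + 1) 0) &&
      patMask Fix Fix (basePts.getD (i + 1) 0) == maskOf (candL.getD i [])

theorem cand_ok : candOK = true ∧ basePts.length = 6 ∧ insideB basePts = true ∧
    1755 * ((candL.getD 0 []).length * ((candL.getD 1 []).length * ((candL.getD 2 []).length *
      ((candL.getD 3 []).length * ((candL.getD 4 []).length * 1))))) ≤ 35942400 := by decide +kernel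

/-- The checks of the rounds. -/
def roundsOK : List (List ℕ) → List (List ℕ) → List ℕ → Bool
  | [], _, Fix => listB.all (maskOf Fix).testBit
  | R :: Rs, F :: Fs, Fix =>
    (F.all fun f => orbPts.contains f && (maskOf Fix).testBit f) &&
      (R.all fun v => decide (v < 4060) && maskB.testBit v && !(maskOf Fix).testBit v && patMask Fix F v == 1 <<< v) &&
      roundsOK Rs Fs (R ++ Fix)
  | _ :: _, [], _ => false

theorem rounds_ok : roundsOK rounds roundPts basePts = true := by decide +kernel

theorem fixed_of_rounds {x : Equiv.Perm V} (hx : x ∈ Aut0) : ∀ (Rs Fs : List (List ℕ)) (Fix : List ℕ),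
    (∀ v : V, v.val ∈ Fix → x v = v) → (∀ f ∈ Fix, f < 4060) → roundsOK Rs Fs Fix = true → x = 1
  | [], _, Fix, hF, _, h => by
    simp only [roundsOK, List.all_eq_true, mem_of_maskOf] at h
    have hB : ∀ v, InB v → x v = v := fun v hv => hF v (h v.val ((inB_iff v).mp hv))
    refine Equiv.ext fun v => ?_
    rcases classify v with rfl | hv | hv
    · exact hx.1
    · exact hB v hv
    · refine stdS_inj ⟨fun e => hv.1 (x.injective (e.trans hx.1.symm)), fun e => hv.2 ((inB_Aut0 hx v).mp e)⟩ hv ?_
      ext u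
      refine and_congr_right fun hu => ?_
      conv_lhs => rw [← hB u hu]
      exact hx.2 v u
  | _ :: _, [], _, _, _, h => by simp [roundsOK] at h
  | R :: Rs, F :: Fs, Fix, hF, hlt, h => by
    simp only [roundsOK, Bool.and_eq_true, List.all_eq_true, decide_eq_true_eq, Bool.not_eq_true', beq_iff_eq,
      List.contains_iff_mem, mem_of_maskOf] at h
    obtain ⟨⟨hFs, hR⟩, hrest⟩ := h
    refine fixed_of_rounds hx Rs Fs (R ++ Fix) ?_ ?_ hrest
    · intro v hv
      rcases List.mem_append.mp hv with hv | hv
      · obtain ⟨⟨⟨-, hB⟩, hn⟩, hm⟩ := hR v.val hv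
        have hn' : v.val ∉ Fix := fun hh => by rw [mem_of_maskOf.mpr hh] at hn; exact Bool.noConfusion hn
        have := mem_patMask hx (fun f hf => (hFs f hf).2) (fun f hf => (hFs f hf).1) hlt hF hB hn'
        rw [hm, Nat.one_shiftLeft, Nat.testBit_two_pow, decide_eq_true_eq] at this
        exact Fin.ext this.symm
      · exact hF v hv
    · intro f hf
      rcases List.mem_append.mp hf with hf | hf
      exacts [(hR f hf).1.1.1, hlt f hf]

theorem base_info : (∀ f ∈ basePts, f < 4060 ∧ maskB.testBit f = true) ∧ basePts.getD 0 1 = 13 := by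
  refine ⟨fun f hf => ?_, by decide +kernel⟩
  have := List.all_eq_true.mp cand_ok.2.2.1 f hf
  simpa using this

/-- A step down the chain of stabilisers. -/
theorem card_step (A : Subgroup (Equiv.Perm V)) (hA : A ≤ Aut0) (i : ℕ) (hi : i < 5)
    (hfix : ∀ x ∈ A, ∀ v : V, v.val ∈ basePts.take (i + 1) → x v = v) {m : ℕ}
    (hm : Nat.card (A ⊓ stabilizer (Equiv.Perm V) (Fin.ofNat 4060 (basePts.getD (i + 1) 0)) :
      Subgroup (Equiv.Perm V)) ≤ m) : Nat.card A ≤ (candL.getD i []).length * m := by
  classical
  have h := List.all_eq_true.mp cand_ok.1 i (List.mem_range.mpr hi)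
  simp only [Bool.and_eq_true, List.all_eq_true, List.contains_iff_mem, Bool.not_eq_true', beq_iff_eq] at h
  obtain ⟨⟨hF, hnc⟩, hmask⟩ := h
  set b : V := Fin.ofNat 4060 (basePts.getD (i + 1) 0) with hb
  have hl : i + 1 < basePts.length := by rw [cand_ok.2.1]; omega
  have hmem : basePts.getD (i + 1) 0 ∈ basePts := by
    rw [List.getD_eq_getElem _ _ hl]; exact List.getElem_mem hl
  have hbv : b.val = basePts.getD (i + 1) 0 := by
    simp only [hb, Fin.val_ofNat]
    exact Nat.mod_eq_of_lt (base_info.1 _ hmem).1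
  have hbB : InB b := by unfold InB; rw [hbv]; exact (base_info.1 _ hmem).2
  rw [← (stabilizer A b).card_mul_index, index_stabilizer, mul_comm]
  refine Nat.mul_le_mul ?_ (le_trans (le_of_eq (Nat.card_congr ?_)) hm)
  · refine le_trans ?_ (List.toFinset_card_le _)
    rw [← Set.ncard_coe_finset, ← Set.ncard_image_of_injective (orbit A b) Fin.val_injective]
    refine Set.ncard_le_ncard ?_
    rintro _ ⟨_, ⟨x, rfl⟩, rfl⟩
    simp only [List.coe_toFinset, Set.mem_ofPred_eq]
    rw [← mem_of_maskOf, ← hmask, ← hbv]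
    refine mem_patMask (hA x.2) (fun f hf => hf) (fun f hf => hF f hf)
      (fun f hf => (base_info.1 f (List.mem_of_mem_take hf)).1) (hfix x x.2) hbB ?_
    intro hh
    rw [hbv] at hh
    have : (List.take (i + 1) basePts).contains (basePts.getD (i + 1) 0) = true := List.contains_iff_mem.mpr hh
    rw [this] at hnc
    exact Bool.noConfusion hnc
  · exact
      { toFun := fun k => ⟨k.1.1, k.1.2, k.2⟩
        invFun := fun k => ⟨⟨k.1, k.2.1⟩, k.2.2⟩
        left_inv := fun _ => rfl
        right_inv := fun _ => rfl }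

/-- The symmetries fixing the first point number at most the standard stabiliser. -/
theorem card_Aut0 : Nat.card Aut0 ≤ 35942400 := by
  let st : ℕ → Subgroup (Equiv.Perm V) := fun i => stabilizer (Equiv.Perm V) (Fin.ofNat 4060 (basePts.getD i 0))
  let A : ℕ → Subgroup (Equiv.Perm V) := Nat.rec (Aut0 ⊓ st 0) fun i S => S ⊓ st (i + 1)
  have hA : ∀ i, A i ≤ Aut0 := by
    intro i
    induction i with
    | zero => exact inf_le_left
    | succ i ih => exact inf_le_left.trans ih
  have hlt : ∀ f ∈ basePts, f < 4060 := fun f hf => (base_info.1 f hf).1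
  have eqst : ∀ i (hl : i < basePts.length) (v : V), v.val = basePts[i] →
      Fin.ofNat 4060 (basePts.getD i 0) = v := fun i hl v hv => Fin.ext (by
    simp only [Fin.val_ofNat, List.getD_eq_getElem _ _ hl, ← hv]
    exact Nat.mod_eq_of_lt v.isLt)
  have hfix : ∀ i, i < 6 → ∀ x ∈ A i, ∀ v : V, v.val ∈ basePts.take (i + 1) → x v = v := by
    intro i hi
    induction i with
    | zero =>
      intro x hx v hv
      have hl : 0 < basePts.length := by rw [cand_ok.2.1]; norm_num
      rw [List.take_succ_eq_append_getElem hl, List.take_zero, List.nil_append, List.mem_singleton] at hv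
      rw [← eqst 0 hl v hv]
      exact hx.2
    | succ i ih =>
      intro x hx v hv
      have hl : i + 1 < basePts.length := by rw [cand_ok.2.1]; omega
      rw [List.take_succ_eq_append_getElem hl, List.mem_append, List.mem_singleton] at hv
      rcases hv with hv | hv
      · exact ih (by omega) x hx.1 v hv
      · rw [← eqst (i + 1) hl v hv]
        exact hx.2
  have h5 : Nat.card ↥(A 5) ≤ 1 := by
    refine le_of_eq ?_
    rw [Subgroup.card_eq_one, eq_bot_iff]
    intro x hx
    refine Subgroup.mem_bot.mpr (fixed_of_rounds (hA 5 hx) rounds roundPts basePts (fun v hv => hfix 5 (by norm_num) x hx v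
      (by rw [List.take_of_length_le (by rw [cand_ok.2.1])]; exact hv)) hlt rounds_ok)
  have s := fun i (hi : i < 5) (m : ℕ) (hm : Nat.card ↥(A (i + 1)) ≤ m) =>
    card_step (A i) (hA i) i hi (hfix i (by omega)) (m := m) hm
  have h0 := s 0 (by norm_num) _ (s 1 (by norm_num) _ (s 2 (by norm_num) _ (s 3 (by norm_num) _
    (s 4 (by norm_num) _ h5))))
  refine le_trans ?_ cand_ok.2.2.2
  set b : V := Fin.ofNat 4060 (basePts.getD 0 0) with hb
  rw [← (stabilizer Aut0 b).card_mul_index, index_stabilizer, mul_comm]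
  refine Nat.mul_le_mul ?_ (le_trans (le_of_eq (Nat.card_congr ?_)) h0)
  · rw [← card_InB]
    refine Set.ncard_le_ncard ?_
    rintro _ ⟨x, rfl⟩
    refine (inB_Aut0 x.2 b).mpr ?_
    have e : basePts.getD 0 0 = 13 := by decide +kernel
    rw [hb, e]
    exact inB13.1
  · exact
      { toFun := fun k => ⟨k.1.1, k.1.2, k.2⟩
        invFun := fun k => ⟨⟨k.1, k.2.1⟩, k.2.2⟩
        left_inv := fun _ => rfl
        right_inv := fun _ => rfl }

theorem Aut0_eq : Aut0 = M0 := by
  refine (Subgroup.eq_of_le_of_card_ge (show M0 ≤ Aut0 from fun m hm => ⟨M0_zero hm, adj_M (M0_le_M hm)⟩) ?_).symm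
  rw [card_M0]
  exact card_Aut0

end CfsgLib.RuRankThree
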