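import Cfsg.Agent.RuRankThree.Points
import Cfsg.Agent.RuRankThree.DataSearch
import Cfsg.Agent.RuRankThree.DataImages

/-!
# Subsets of the first suborbit invariant under a group of order 25

A set that meets the ten near points of each of its members five times, of any other point four times, and that is
invariant under two given commuting elements of order five is the set of a point of the second suborbit or has more
images than there are such points.
-/

set_option autoImplicit false
set_option maxRecDepth 100000
set_option maxHeartbeats 2000000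
set_option linter.style.haveILetI false
set_option Elab.async false

namespace CfsgLib.RuRankThree

open CfsgLib.Coset

attribute [local irreducible] Ru.Pts.Tb bV cV maskB treeB treeC rowBits labT labTree searchCode excPre excPar excOrder
  orbTree0

/-- The orbit number of a point. -/
def labOf (v : ℕ) : ℕ := getA labT v

/-- A representative. -/
def repOf (j : ℕ) : ℕ := repL.getD j 0

/-- A letter of the group of order 25. -/
def fiveW (k : ℕ) : List ℕ := if k = 0 then fiveA else fiveB

theorem lab_ok : (decide (LettersH fiveA) && decide (LettersH fiveB)) = true ∧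
    (listB.all fun v => decide (labOf v < 75) &&
      ((getA labTree (3 * v) == 0 && repOf (labOf v) == v) ||
        (decide (getA labTree (3 * getA labTree (3 * v + 1)) < getA labTree (3 * v)) &&
          labOf (getA labTree (3 * v + 1)) == labOf v && maskB.testBit (getA labTree (3 * v + 1)) &&
          app (fiveW (getA labTree (3 * v + 2))) (getA labTree (3 * v + 1)) == v))) = true ∧
    ((List.range 75).all fun j => maskB.testBit (repOf j) && labOf (repOf j) == j && decide (repOf j < 4060) &&
      decide (LettersH (repWords.getD j [])) && app (repWords.getD j []) 13 == repOf j &&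
      decide ((orbL 0).map (app (repWords.getD j []))).Nodup &&
      ((orbL 0).map (app (repWords.getD j []))).map labOf == nearLab.getD j []) = true := by
  decide +kernel

/-! ### The search -/

/-- The near orbit numbers that are known to be inside. -/
def onesOf (j kn val : ℕ) : ℕ := (nearLab.getD j []).countP fun c => kn.testBit c && val.testBit c

/-- The near orbit numbers that are undecided. -/
def openOf (j kn : ℕ) : ℕ := (nearLab.getD j []).countP fun c => !kn.testBit c

/-- An equation cannot hold. -/
def bad (j kn val : ℕ) : Bool :=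
  let lo := onesOf j kn val
  let hi := lo + openOf j kn
  if kn.testBit j then (if val.testBit j then decide (5 < lo ∨ hi < 5) else decide (4 < lo ∨ hi < 4))
  else decide (5 < lo ∨ hi < 4)

/-- All orbit numbers. -/
def fullKn : ℕ := 2 ^ 75 - 1

/-- The search, following a tree given in prefix order. -/
def search : ℕ → ℕ → ℕ → ℕ → Option ℕ
  | 0, _, _, _ => none
  | n + 1, pos, kn, val =>
    let k := getA searchCode pos
    if 1000000 ≤ k then
      (if decide (k - 1000000 < 8) && kn == fullKn && val == solL.getD (k - 1000000) 0 then some (pos + 1) else none)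
    else if k % 2 = 0 then (if decide (k / 2 < 75) && bad (k / 2) kn val then some (pos + 1) else none)
    else if decide (k / 2 < 75) && !kn.testBit (k / 2) then
      match search n (pos + 1) (kn ||| 1 <<< (k / 2)) val with
      | none => none
      | some pos' => search n pos' (kn ||| 1 <<< (k / 2)) (val ||| 1 <<< (k / 2))
    else none

theorem search_ok : (search 100 0 0 0).isSome = true := by decide +kernel

/-- A partial assignment agrees with values. -/
def Agrees (kn val : ℕ) (Y : ℕ → Bool) : Prop :=
  (∀ c, kn.testBit c = true → val.testBit c = Y c) ∧ ∀ c, kn.testBit c = false → val.testBit c = false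

theorem countP_bounds {Y : ℕ → Bool} {kn val : ℕ} (hy : Agrees kn val Y) (l : List ℕ) :
    (l.countP fun c => kn.testBit c && val.testBit c) ≤ l.countP Y ∧
      l.countP Y ≤ (l.countP fun c => kn.testBit c && val.testBit c) + l.countP fun c => !kn.testBit c := by
  induction l with
  | nil => simp
  | cons a l ih =>
    simp only [List.countP_cons]
    rcases Bool.eq_false_or_eq_true (kn.testBit a) with h | h
    · rw [h, hy.1 a h]
      cases Y a <;> simp <;> omega
    · rw [h]
      cases Y a <;> simp <;> omega

theorem search_sound {Y : ℕ → Bool}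
    (heq : ∀ j < 75, (nearLab.getD j []).countP Y = if Y j then 5 else 4) :
    ∀ (n pos kn val rest : ℕ), search n pos kn val = some rest → Agrees kn val Y →
      ∃ s < 8, ∀ c < 75, Y c = (solL.getD s 0).testBit c := by
  intro n
  induction n with
  | zero => intro pos kn val rest h; simp [search] at h
  | succ n ih =>
    intro pos kn val rest h hy
    rw [search] at h
    split_ifs at h with h1 h2 h3 h4 h5
    · simp only [Bool.and_eq_true, decide_eq_true_eq, beq_iff_eq] at h2
      refine ⟨_, h2.1.1, fun c hc => ?_⟩
      rw [← h2.2, hy.1 c (by rw [h2.1.2, fullKn, Nat.testBit_two_pow_sub_one]; simpa using hc)]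
    · simp only [Bool.and_eq_true, decide_eq_true_eq] at h4
      obtain ⟨hj, hb⟩ := h4
      obtain ⟨l, u⟩ := countP_bounds hy (nearLab.getD (getA searchCode pos / 2) [])
      rw [heq _ hj] at l u
      simp only [bad, onesOf, openOf] at hb
      split_ifs at hb with k1 k2
      · rw [hy.1 _ k1] at k2
        rw [if_pos k2] at l u
        replace hb := of_decide_eq_true hb
        omega
      · rw [hy.1 _ k1] at k2
        rw [if_neg k2] at l u
        replace hb := of_decide_eq_true hb
        omega
      · replace hb := of_decide_eq_true hb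
        split_ifs at l u <;> omega
    · simp only [Bool.and_eq_true, decide_eq_true_eq, Bool.not_eq_true'] at h5
      set c := getA searchCode pos / 2
      cases hs : search n (pos + 1) (kn ||| 1 <<< c) val with
      | none => rw [hs] at h; simp at h
      | some pos' =>
        rw [hs] at h
        simp only at h
        have h0 : Y c = false → Agrees (kn ||| 1 <<< c) val Y := fun e => by
          refine ⟨fun d hd => ?_, fun d hd => hy.2 d (by simp at hd; exact hd.1)⟩
          simp only [Nat.testBit_or, Nat.one_shiftLeft, Nat.testBit_two_pow, Bool.or_eq_true, decide_eq_true_eq] at hd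
          rcases hd with hd | rfl
          · exact hy.1 d hd
          · rw [hy.2 c h5.2, e]
        have h1' : Y c = true → Agrees (kn ||| 1 <<< c) (val ||| 1 <<< c) Y := fun e => by
          refine ⟨fun d hd => ?_, fun d hd => ?_⟩
          · simp only [Nat.testBit_or, Nat.one_shiftLeft, Nat.testBit_two_pow, Bool.or_eq_true,
              decide_eq_true_eq] at hd ⊢
            rcases eq_or_ne c d with rfl | hne
            · simp [e]
            · rw [hy.1 d (hd.resolve_right hne)]; simp [hne]
          · simp only [Nat.testBit_or, Nat.one_shiftLeft, Nat.testBit_two_pow, Bool.or_eq_false_iff] at hd ⊢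
            exact ⟨hy.2 d hd.1, hd.2⟩
        cases e : Y c
        · exact ih _ _ _ _ hs (h0 e)
        · exact ih _ _ _ _ h (h1' e)

/-! ### The exceptional solutions -/

/-- The set of a point of the second suborbit. -/
def stdS (z : V) : Set V := {v | InB v ∧ AdjS z v}

/-- The points of a solution. -/
def solSet (s : ℕ) : Set V := {v | InB v ∧ (solL.getD s 0).testBit (labOf v.val) = true}

theorem sol_ok : ((List.range 8).all fun s =>
    if solPts.getD s 0 = 0 then
      decide (LettersH (solWords.getD s [])) && listB.all fun v =>
        (solL.getD excIx 0).testBit (labOf v) == (solL.getD s 0).testBit (labOf (app (solWords.getD s []) v))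
    else
      decide (solPts.getD s 0 < 4060) && rowPts.contains (solPts.getD s 0) &&
        (maskOf listC).testBit (solPts.getD s 0) && listB.all fun v =>
        (rowOf (solPts.getD s 0)).testBit v == (solL.getD s 0).testBit (labOf v)) = true := by
  decide +kernel

/-- The preimage of a key at a node. -/
def preOf (j k : ℕ) : ℕ := (excPre.getD (j >>> 6) 0 >>> (24 * (excKeyNum * (j &&& 63) + k))) &&& 16777215

/-- The pattern of a node. -/
def patOf (j : ℕ) : ℕ :=
  maskOf ((List.range excKeyNum).filter fun k => (solL.getD excIx 0).testBit (labOf (preOf j k)))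

theorem exc_ok : ((List.range 2305).all fun j =>
    if j = 0 then (List.range excKeyNum).all fun k => preOf 0 k == getA excKeys k && maskB.testBit (getA excKeys k)
    else decide (getA excPar (2 * j) < j ∧ getA excPar (2 * j + 1) < 4) &&
      (List.range excKeyNum).all fun k =>
        app [getA excPar (2 * j + 1)] (preOf (getA excPar (2 * j)) k) == preOf j k) = true ∧
    ((List.range 2305).all fun i => decide (getA excOrder i < 2305) &&
      (decide (i = 0) || decide (patOf (getA excOrder (i - 1)) < patOf (getA excOrder i)))) = true := by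
  decide +kernel

theorem node_elem : ∀ j < 2305, ∃ m ∈ M0, ∀ k < excKeyNum, ∃ x : V,
    x.val = preOf j k ∧ InB x ∧ (m x).val = getA excKeys k := by
  intro j
  induction j using Nat.strong_induction_on with
  | _ j ih =>
    intro hj
    have h := List.all_eq_true.mp exc_ok.1 j (List.mem_range.mpr hj)
    split_ifs at h with h0
    · subst h0
      refine ⟨1, one_mem _, fun k hk => ?_⟩
      have := List.all_eq_true.mp h k (List.mem_range.mpr hk)
      simp only [Bool.and_eq_true, beq_iff_eq] at this
      have hlt : getA excKeys k < 4060 := by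
        have hm := this.2
        rw [← trees_ok.1.2.2, mem_of_maskOf] at hm
        exact lt_of_mem (Or.inl rfl) hm
      exact ⟨⟨_, hlt⟩, this.1.symm, this.2, rfl⟩
    · simp only [Bool.and_eq_true, decide_eq_true_eq, List.all_eq_true, List.mem_range, beq_iff_eq] at h
      obtain ⟨⟨hp, hg⟩, hpre⟩ := h
      obtain ⟨m, hm, hx⟩ := ih _ hp (by omega)
      have hl : LettersH [getA excPar (2 * j + 1)] :=
        tits_letters _ (by interval_cases getA excPar (2 * j + 1) <;> simp)
      refine ⟨m * (wperm [getA excPar (2 * j + 1)])⁻¹, mul_mem hm (inv_mem (wperm_mem hl)), fun k hk => ?_⟩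
      obtain ⟨x, e, hB, em⟩ := hx k hk
      refine ⟨wperm [getA excPar (2 * j + 1)] x, ?_, (inB_M0 (wperm_mem hl)).mpr hB, ?_⟩
      · rw [wperm_apply hl.1, e, hpre k hk]
      · rw [Equiv.Perm.mul_apply]; simpa using em

theorem many_images : ∃ f : Fin 2305 → M0,
    Function.Injective fun j => ((f j : M0) : Equiv.Perm V) '' solSet excIx := by
  choose m hm hx using node_elem
  have hord : ∀ i : Fin 2305, getA excOrder i.val < 2305 := fun i => by
    have := List.all_eq_true.mp exc_ok.2 i.val (List.mem_range.mpr i.isLt)
    simp only [Bool.and_eq_true, decide_eq_true_eq] at this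
    exact this.1
  refine ⟨fun i => ⟨m _ (hord i), hm _ (hord i)⟩, ?_⟩
  intro i i' e
  simp only at e
  have hpat : patOf (getA excOrder i.val) = patOf (getA excOrder i'.val) := by
    refine Nat.eq_of_testBit_eq fun k => ?_
    rw [Bool.eq_iff_iff, patOf, patOf, mem_of_maskOf, mem_of_maskOf, List.mem_filter, List.mem_filter,
      List.mem_range]
    refine and_congr_right fun hk => ?_
    obtain ⟨x, ex, hB, em⟩ := hx _ (hord i) k hk
    obtain ⟨x', ex', hB', em'⟩ := hx _ (hord i') k hk
    have h := Set.ext_iff.mp e (m _ (hord i) x)
    rw [(m _ (hord i)).injective.mem_set_image,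
      show m _ (hord i) x = m _ (hord i') x' from Fin.ext (em.trans em'.symm),
      (m _ (hord i')).injective.mem_set_image] at h
    simpa [solSet, hB, hB', ex, ex'] using h
  have mono : ∀ a b, a < b → b < 2305 → patOf (getA excOrder a) < patOf (getA excOrder b) := by
    intro a b hab
    induction b, hab using Nat.le_induction with
    | base =>
      intro hb
      have := List.all_eq_true.mp exc_ok.2 (a + 1) (List.mem_range.mpr hb)
      simpa using (Bool.and_eq_true _ _ |>.mp this).2
    | succ b hle ih =>
      intro hb
      have := List.all_eq_true.mp exc_ok.2 (b + 1) (List.mem_range.mpr hb)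
      simp only [Bool.and_eq_true, decide_eq_true_eq, Bool.or_eq_true, Nat.add_sub_cancel, Nat.succ_ne_zero,
        false_or] at this
      exact (ih (by omega)).trans this.2
  rcases lt_trichotomy i.val i'.val with h | h | h
  · exact absurd hpat (mono _ _ h i'.isLt).ne
  · exact Fin.ext h
  · exact absurd hpat.symm (mono _ _ h i.isLt).ne

/-- An invariant solution is standard or has too many images. -/
theorem invariant_set (S : Set V) (hsub : ∀ v ∈ S, InB v)
    (h5 : ∀ v ∈ S, ({w | Orb 0 v w} ∩ S).ncard = 5)
    (h4 : ∀ v, InB v → v ∉ S → ({w | Orb 0 v w} ∩ S).ncard = 4)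
    (hA : ∀ v ∈ S, (wM fiveA : Equiv.Perm V) v ∈ S) (hB : ∀ v ∈ S, (wM fiveB : Equiv.Perm V) v ∈ S) :
    (∃ z, InC z ∧ S = stdS z) ∨
      ∃ f : Fin 2305 → M0, Function.Injective fun j => ((f j : M0) : Equiv.Perm V) '' S := by
  classical
  obtain ⟨hl5, hlab, hrep⟩ := lab_ok
  simp only [Bool.and_eq_true, decide_eq_true_eq] at hl5
  have iff5 : ∀ k v, (wperm (fiveW k) v ∈ S ↔ v ∈ S) := by
    intro k v
    have hinv : ∀ u ∈ S, wperm (fiveW k) u ∈ S := fun u hu => by
      unfold fiveW
      split_ifs
      · rw [← wM_val hl5.1]; exact hA u hu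
      · rw [← wM_val hl5.2]; exact hB u hu
    refine ⟨fun h => ?_, hinv v⟩
    have himg : wperm (fiveW k) '' S = S := Set.eq_of_subset_of_ncard_le (Set.image_subset_iff.mpr hinv)
      (by rw [Set.ncard_image_of_injective _ (wperm (fiveW k)).injective])
    rw [← himg] at h
    exact (wperm (fiveW k)).injective.mem_set_image.mp h
  let Y : ℕ → Bool := fun c => decide (Fin.ofNat 4060 (repOf c) ∈ S)
  have key : ∀ v : V, InB v → (v ∈ S ↔ Y (labOf v.val) = true) := by
    intro v
    induction hr : getA labTree (3 * v.val) using Nat.strong_induction_on generalizing v with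
    | _ r ih =>
      intro hv
      have h := List.all_eq_true.mp hlab v.val ((inB_iff v).mp hv)
      simp only [Bool.and_eq_true, decide_eq_true_eq, Bool.or_eq_true, beq_iff_eq] at h
      rcases h.2 with ⟨-, e⟩ | ⟨⟨⟨hlt, hlab'⟩, hpB⟩, e⟩
      · simp only [Y, decide_eq_true_eq, e]
        rw [show Fin.ofNat 4060 v.val = v from Fin.ext (Nat.mod_eq_of_lt v.isLt)]
      · set p := getA labTree (3 * v.val + 1)
        have hp : p < 4060 := by
          have hm := hpB
          rw [← trees_ok.1.2.2, mem_of_maskOf] at hm
          exact lt_of_mem (Or.inl rfl) hm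
        have hw : LettersH (fiveW (getA labTree (3 * v.val + 2))) := by
          unfold fiveW; split_ifs; exacts [hl5.1, hl5.2]
        have ev : wperm (fiveW (getA labTree (3 * v.val + 2))) ⟨p, hp⟩ = v :=
          Fin.ext (by rw [wperm_apply hw.1]; exact e)
        rw [← hlab', ← ih _ (hr ▸ hlt) ⟨p, hp⟩ rfl hpB]
        conv_lhs => rw [← ev]
        exact iff5 _ _
  have heq : ∀ j < 75, (nearLab.getD j []).countP Y = if Y j then 5 else 4 := by
    intro j hj
    have h := List.all_eq_true.mp hrep j (List.mem_range.mpr hj)
    simp only [Bool.and_eq_true, decide_eq_true_eq, beq_iff_eq] at h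
    obtain ⟨⟨⟨⟨⟨⟨hB', hlj⟩, hlt⟩, hw⟩, e13⟩, hnd⟩, hnear⟩ := h
    set r : V := ⟨repOf j, hlt⟩
    have hrS : r ∈ S ↔ Y j = true := by
      have := key r hB'
      rwa [show labOf r.val = j from hlj] at this
    have em : wperm (repWords.getD j []) 13 = r := Fin.ext (by rw [wperm_apply hw.1]; exact e13)
    have hlist : ∀ x : V, Orb 0 r x ↔ x.val ∈ (orbL 0).map (app (repWords.getD j [])) := by
      intro x
      obtain ⟨x, rfl⟩ := (wperm (repWords.getD j [])).surjective x
      rw [← em, orb_M0 (wperm_mem hw), orb13_iff (by norm_num), List.mem_map, wperm_apply hw.1]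
      refine ⟨fun hx => ⟨_, hx, rfl⟩, fun ⟨y, hy, e⟩ => ?_⟩
      obtain ⟨hy', -⟩ := orb_base (by norm_num) hy
      have : (⟨y, hy'⟩ : V) = x := (wperm (repWords.getD j [])).injective
        (Fin.ext (by rw [wperm_apply hw.1, wperm_apply hw.1]; exact e))
      rw [← this]; exact hy
    have hcount : ({w | Orb 0 r w} ∩ S).ncard =
        (((orbL 0).map (app (repWords.getD j []))).filter fun x => Y (labOf x)).length := by
      have hlt' : ∀ x ∈ (orbL 0).map (app (repWords.getD j [])), x < 4060 := fun x hx => by
        obtain ⟨y, hy, rfl⟩ := List.mem_map.mp hx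
        obtain ⟨hy', -⟩ := orb_base (k := 0) (by norm_num) hy
        exact wperm_apply hw.1 ⟨y, hy'⟩ ▸ (wperm _ _).isLt
      rw [← ncard_vals (hnd.filter _) (fun x hx => hlt' x (List.mem_filter.mp hx).1)]
      congr 1
      ext x
      simp only [Set.mem_inter_iff, Set.mem_ofPred_eq, List.mem_filter, hlist]
      refine and_congr_right fun hx => ?_
      exact key x ((hlist x).mpr hx).2.1
    rw [← hnear, List.countP_map, List.countP_eq_length_filter]
    refine hcount.symm.trans ?_
    by_cases hr : r ∈ S
    · rw [h5 r hr, if_pos (hrS.mp hr)]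
    · rw [h4 r hB' hr, if_neg fun e => hr (hrS.mpr e)]
  obtain ⟨rest, hrest⟩ := Option.isSome_iff_exists.mp search_ok
  obtain ⟨s, hs, hY⟩ := search_sound heq 100 0 0 0 rest hrest ⟨fun c hc => by simp at hc, fun c _ => by simp⟩
  have hS : S = solSet s := by
    ext v
    by_cases hv : InB v
    · have h := List.all_eq_true.mp hlab v.val ((inB_iff v).mp hv)
      simp only [Bool.and_eq_true, decide_eq_true_eq] at h
      rw [key v hv, hY _ h.1]
      simp [solSet, hv]
    · exact iff_of_false (fun h => hv (hsub v h)) (fun h => hv h.1)
  have hsol := List.all_eq_true.mp sol_ok s (List.mem_range.mpr hs)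
  split_ifs at hsol with hz
  · refine Or.inr ?_
    simp only [Bool.and_eq_true, decide_eq_true_eq, List.all_eq_true, beq_iff_eq] at hsol
    obtain ⟨hw, ht⟩ := hsol
    obtain ⟨f, hf⟩ := many_images
    have himg : S = wperm (solWords.getD s []) '' solSet excIx := by
      rw [hS]
      ext v
      obtain ⟨v, rfl⟩ := (wperm (solWords.getD s [])).surjective v
      rw [(wperm (solWords.getD s [])).injective.mem_set_image]
      show InB _ ∧ _ ↔ InB v ∧ _
      rw [inB_M0 (wperm_mem hw), wperm_apply hw.1]
      exact and_congr_right fun hv => by rw [ht v.val ((inB_iff v).mp hv)]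
    refine ⟨fun j => f j * (wM (solWords.getD s []))⁻¹, fun i j e => hf ?_⟩
    simp only [Subgroup.coe_mul, Subgroup.coe_inv, wM_val hw, himg, ← Set.image_comp] at e
    have cancel : ∀ g : Equiv.Perm V,
        (⇑(g * (wperm (solWords.getD s []))⁻¹) ∘ ⇑(wperm (solWords.getD s []))) = ⇑g := fun g => by
      ext x; simp
    rw [cancel, cancel] at e
    exact e
  · refine Or.inl ?_
    simp only [Bool.and_eq_true, decide_eq_true_eq, List.all_eq_true, beq_iff_eq, List.contains_iff_mem,
      mem_of_maskOf] at hsol
    obtain ⟨⟨⟨hlt, hrow⟩, hC⟩, hbits⟩ := hsol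
    refine ⟨⟨_, hlt⟩, (inC_iff _).mpr hC, ?_⟩
    rw [hS]
    ext v
    refine and_congr_right fun hv => ?_
    rw [row_spec (p := (⟨_, hlt⟩ : V)) hrow]
    exact by rw [hbits v.val ((inB_iff v).mp hv)]

end CfsgLib.RuRankThree
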